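import Groth.Agent.Curves.K327.G0Deg
import Groth.Agent.Dix.PointIdeal
import Groth.Agent.Dix.InterNum
import Groth.Agent.Grpsch.PicGrp
import Groth.Agent.Models.H55.PtDeg
import Groth.Agent.Models.RMOpen
import Groth.Agent.S2618
import Groth.Agent.S0549
import Groth.Agent.CurvesB.DimPts
import Groth.Agent.CurvesB.SepLift

/-!
# Regular points of least degree on curves of genus zero
-/

set_option autoImplicit false
universe u
open CategoryTheory CategoryTheory.Limits AlgebraicGeometry TopologicalSpace Opposite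

namespace Groth.Agent.Curves.K327.G0Points

open Groth.Agent.CohqB.HSeqMod Groth.Agent.CurvesB.SubH1 Groth.Agent.CurvesC.Gen NefStep NefInd
open Groth.Agent.CurvesB Groth.Agent.CurvesB.SubPoint Groth.Agent.Ega2 G0Deg
open Groth.Agent.Divis.CartierBasic Groth.Agent.Dix.PointIdeal

section Point

variable {X : Scheme.{u}} [IsIntegral X] [IsLocallyNoetherian X]

/-- A closed point of an integral scheme of dimension one is not generic. -/
theorem ne_genericPoint (hdim : topologicalKrullDim X = 1) (P : X) (hP : IsClosed ({P} : Set X)) :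
    P ≠ genericPoint X := by
  rintro rfl
  have h0 : topologicalKrullDim X ≤ 0 := by
    rw [dim_nonpos_iff]
    have key : ∀ z : X, z = genericPoint X := fun z =>
      ((genericPoint_specializes z).mem_closed hP rfl)
    intro a b _
    rw [key a, key b]
  rw [hdim] at h0
  exact absurd h0 (by decide)

theorem ringKrullDim_stalk (hdim : topologicalKrullDim X = 1) (P : X) (hP : IsClosed ({P} : Set X)) :
    ringKrullDim (X.presheaf.stalk P) = 1 := by
  refine le_antisymm ((DimPts.ringKrullDim_stalk_le P).trans hdim.le) ?_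
  rw [ringKrullDim_stalk_eq_coheight]
  have h1 : P < genericPoint X := lt_of_le_not_ge (show genericPoint X ⤳ P from genericPoint_specializes P)
    (fun h2 : P ⤳ genericPoint X =>
      ne_genericPoint hdim P hP (h2.antisymm (genericPoint_specializes P)).eq)
  have h2 := Order.coheight_add_one_le h1
  have h3 : (1 : ℕ∞) ≤ Order.coheight P := le_trans (by simp) h2
  exact_mod_cast h3

/-- The ideal of a regular closed point is an effective Cartier divisor. -/
theorem isEff_pt (hdim : topologicalKrullDim X = 1) (P : X) (hP : IsClosed ({P} : Set X))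
    (hreg : IsRegularLocalRing (X.presheaf.stalk P)) : BlowUp.IsEffCartierIdeal (pt P hP) := by
  obtain ⟨hD, hV⟩ := (Groth.Agent.S0549.dvr_iff (X.presheaf.stalk P)).2 ⟨hreg, ringKrullDim_stalk hdim P hP⟩
  obtain ⟨ϖ, hϖ⟩ := IsDiscreteValuationRing.exists_irreducible (X.presheaf.stalk P)
  apply isEffCartierIdeal_of_stalkIdeal
  intro x hx
  rw [mem_support_pt] at hx
  subst hx
  exact ⟨ϖ, mem_nonZeroDivisors_of_ne_zero hϖ.ne_zero, by
    rw [stalkIdeal_pt]
    exact (IsDiscreteValuationRing.irreducible_iff_uniformizer ϖ).mp hϖ⟩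

end Point

variable (k : Type u) [Field k] {X : Scheme.{u}} [X.Over (Spec (CommRingCat.of k))]
  [IsIntegral X] [IsProper (X ↘ (Spec (CommRingCat.of k)))]

/-- the degree of a closed point. -/
noncomputable abbrev dg (P : X) (hP : IsClosed ({P} : Set X)) : ℕ :=
  Module.finrank k (Coh.HH X (ClSub.quotMod (pt P hP)) 0)

/-- `O(P)`. -/
theorem exists_inverse_pt (hdim : topologicalKrullDim X = 1) (P : X) (hP : IsClosed ({P} : Set X))
    (hreg : IsRegularLocalRing (X.presheaf.stalk P)) :
    ∃ L : X.Modules, PicF.IsInvertible L ∧ PicF.IsInvertible (ClSub.idealMod (pt P hP)) ∧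
      ClSub.IsInverseOf L (ClSub.idealMod (pt P hP)) ∧ Curv2.deg k X L 1 = dg k P hP := by
  have hn : IsLocallyNoetherian X := LocallyOfFiniteType.isLocallyNoetherian (X ↘ Spec (CommRingCat.of k))
  have hD := isEff_pt hdim P hP hreg
  have hI := Dix.IdealModCartier.isInvertible_idealMod hD
  obtain ⟨L, hL, ⟨e⟩⟩ := Grpsch.PicGrp.exists_inverse hI
  have hLD : ClSub.IsInverseOf L (ClSub.idealMod (pt P hP)) := ⟨Ega2.Tens.swap L _ ≪≫ e⟩
  exact ⟨L, hL, hI, hLD, Dix.InterNum.deg_of_effCartier k X hdim _ hD L hLD⟩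

theorem deg_idealMod_pt (hdim : topologicalKrullDim X = 1) (P : X) (hP : IsClosed ({P} : Set X))
    (hreg : IsRegularLocalRing (X.presheaf.stalk P)) :
    Curv2.deg k X (ClSub.idealMod (pt P hP)) 1 = - dg k P hP := by
  obtain ⟨L, hL, hI, ⟨e⟩, hd⟩ := exists_inverse_pt k hdim P hP hreg
  have h1 := Old.H24.LinearSeries.deg_tensor k hdim.le hL hI
  rw [SubEuler.deg_congr k e 1, Dix.InterNum.deg_unit, hd] at h1
  linarith

/-- The degree of a point is positive. -/
theorem dg_pos (hdim : topologicalKrullDim X = 1) (P : X) (hP : IsClosed ({P} : Set X)) : 0 < dg k P hP := by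
  have := CurvesC.CurveCoh.noetherianSpace k X
  have hc : Coh.IsCoh (ClSub.quotMod (pt P hP)) := VarietyB.DegCartier.isCoh_quotMod _
  have hf : Module.Finite k (Coh.HH X (ClSub.quotMod (pt P hP)) 0) := Groth.Agent.S0002.result k X _ hc 0
  have hne : Nontrivial (Coh.HH X (ClSub.quotMod (pt P hP)) 0) := by
    rw [← not_subsingleton_iff_nontrivial]
    intro hs
    have h1 : Subsingleton Γ(ClSub.quotMod (pt P hP), ⊤) := (HZero.equivAdd _).symm.toEquiv.subsingleton
    have h2 : (1 : Γ((pt P hP).subscheme, ⊤)) = 0 := @Subsingleton.elim _ h1 _ _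
    have h3 : P ∈ Set.range (pt P hP).subschemeι := by
      rw [Scheme.IdealSheafData.range_subschemeι]
      exact (mem_support_pt P hP P).2 rfl
    obtain ⟨z, hz⟩ := h3
    have : Nonempty (⊤ : (pt P hP).subscheme.Opens) := ⟨⟨z, trivial⟩⟩
    exact one_ne_zero h2
  exact Module.finrank_pos

/-- A section vanishing at a closed point lifts to `I_P ⊗ L`. -/
theorem exists_lift_section {L : X.Modules} (hL : PicF.IsInvertible L) (P : X) (hP : IsClosed ({P} : Set X))
    (s : Coh.structureModule X ⟶ L) (hs : P ∉ CohB1.genLocus L s) :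
    ∃ t : Γ(CohB1.tensorMod (ClSub.idealMod (pt P hP)) L, ⊤), (SepLift.mu (pt P hP) L).app ⊤ t = sec s ⊤ := by
  refine SepLift.exists_mu_of_pr_eq_zero (pt P hP) hL (sec s ⊤) ?_
  refine Tens.eq_of_locally_eq _ _ _ fun x _ => ?_
  obtain ⟨V, hxV, e, he⟩ := exists_isGen hL x
  refine ⟨V, homOfLE le_top, hxV, ?_⟩
  obtain ⟨a, ha⟩ := he.exists_eq (sec s V)
  have h1 := genLocus_inf_eq_basicOpen he s ha
  have hred : IsReduced (pt P hP).subscheme := Ega1.ReducedSub.isReduced_subscheme_vanishingIdeal _
  have h2 : (pt P hP).subschemeι.app V a = 0 := by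
    rw [← basicOpen_eq_bot_iff, ← Scheme.preimage_basicOpen]
    ext z
    simp only [Opens.coe_bot, Set.mem_empty_iff_false, iff_false]
    intro hz
    have hz' : (pt P hP).subschemeι z ∈ X.basicOpen a := hz
    have h3 : (pt P hP).subschemeι z = P := by
      have : (pt P hP).subschemeι z ∈ ((pt P hP).support : Set X) := by
        rw [← Scheme.IdealSheafData.range_subschemeι]
        exact ⟨z, rfl⟩
      exact (mem_support_pt P hP _).1 this
    rw [h3, ← h1] at hz'
    exact hs hz'.1
  obtain ⟨i, hi⟩ := SepLift.exists_inc (pt P hP) V a h2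
  rw [map_zero, Tens.app_res]
  have h4 : L.presheaf.map (homOfLE (le_top : V ≤ ⊤)).op (sec s ⊤) = (SepLift.mu (pt P hP) L).app V (Tens.tmul i e) := by
    rw [map_sec, ← ha, ← hi]
    exact (SepLift.mu_tmul (pt P hP) L i e).symm
  rw [h4]
  have h5 : SepLift.mu (pt P hP) L ≫ SepLift.pr (pt P hP) L = 0 := cokernel.condition _
  exact congr(($h5).app V (Tens.tmul i e))

/-- The degree of a regular zero of a nonzero section is at most the degree of the module. -/
theorem dg_le_deg (hdim : topologicalKrullDim X = 1) {L : X.Modules} (hL : PicF.IsInvertible L) (P : X)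
    (hP : IsClosed ({P} : Set X)) (hreg : IsRegularLocalRing (X.presheaf.stalk P))
    (s : Coh.structureModule X ⟶ L) (hs : P ∉ CohB1.genLocus L s) (hs0 : s ≠ 0) :
    (dg k P hP : ℤ) ≤ Curv2.deg k X L 1 := by
  obtain ⟨L', hL', hI, -, -⟩ := exists_inverse_pt k hdim P hP hreg
  obtain ⟨t, ht⟩ := exists_lift_section hL P hP s hs
  have ht0 : t ≠ 0 := by
    rintro rfl
    rw [map_zero] at ht
    apply hs0
    rw [← ofSec_sec s, ← ht]
    ext U a
    rw [app_eq_smul, sec_ofSec, map_zero, smul_zero]
    rfl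
  have h1 := deg_nonneg_of_section k hdim.le (Fdesc.LocGen.isInvertible_tensorMod hI hL)
    (Pairing.secHom _ t) (Pairing.secHom_ne_zero ht0)
  rw [Old.H24.LinearSeries.deg_tensor k hdim.le hI hL, deg_idealMod_pt k hdim P hP hreg] at h1
  linarith

include k in
/-- The non-regular points of a curve are finite. -/
theorem finite_nonregular (hdim : topologicalKrullDim X = 1) :
    {x : X | ¬ IsRegularLocalRing (X.presheaf.stalk x)}.Finite := by
  have := CurvesC.CurveCoh.noetherianSpace k X
  have ho : IsOpen {x : X | IsRegularLocalRing (X.presheaf.stalk x)} :=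
    Models.RMOpen.isOpen_reg_of_isJ2 (Groth.Agent.S2618.isJ2_of_field k) (X ↘ (Spec (CommRingCat.of k)))
  have hη : IsRegularLocalRing (X.presheaf.stalk (genericPoint X)) :=
    inferInstanceAs (IsRegularLocalRing X.functionField)
  have hc : IsClosed {x : X | ¬ IsRegularLocalRing (X.presheaf.stalk x)} := ho.isClosed_compl
  have hq : QuasiSober {x : X | ¬ IsRegularLocalRing (X.presheaf.stalk x)} :=
    hc.isClosedEmbedding_subtypeVal.quasiSober
  refine VarietyA.FiniteSupport.finite hc ?_
  rw [dim_nonpos_iff]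
  have hdim' := hdim.le
  rw [dim_le_one_iff] at hdim'
  intro a b hab
  have hab' : (a : X) ⤳ b := (subtype_specializes_iff _ _).mp hab
  rcases hdim' (a : X) with h1 | h1
  · exact Subtype.ext (h1 _ hab')
  · have h2 : genericPoint X = a := h1 _ (genericPoint_specializes _)
    exact absurd (h2 ▸ hη) a.2

/-- **Existence of regular points of small degree**: an invertible module of positive degree has a section
whose zeros are regular and avoid a given finite set. -/
theorem exists_point [Infinite k] (hdim : topologicalKrullDim X = 1)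
    (h1 : Subsingleton (Coh.HH X (Coh.structureModule X) 1)) {L : X.Modules} (hL : PicF.IsInvertible L)
    (hd : 0 < Curv2.deg k X L 1) (T : Set X) (hT : T.Finite) :
    ∃ (Q : X) (hQ : IsClosed ({Q} : Set X)), Q ∉ T ∧ IsRegularLocalRing (X.presheaf.stalk Q) ∧
      (dg k Q hQ : ℤ) ≤ Curv2.deg k X L 1 := by
  have := CurvesC.CurveCoh.noetherianSpace k X
  have hgg := (gg_of_deg_nonneg k hdim.le h1 hL hd.le).2
  obtain ⟨s, hs⟩ := TwoSec.exists_section (k := k) hL hgg
    (T ∪ {x : X | ¬ IsRegularLocalRing (X.presheaf.stalk x)} ∪ {genericPoint X})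
    ((hT.union (finite_nonregular k hdim)).union (Set.finite_singleton _))
  have hη : genericPoint X ∈ CohB1.genLocus L s := hs _ (Or.inr rfl)
  have hs0 : s ≠ 0 := by
    rintro rfl
    have h2 : IsGen L (CohB1.genLocus L (0 : Coh.structureModule X ⟶ L)) (sec 0 _) := (le_genLocus_iff _ _).mp le_rfl
    have : Nonempty (CohB1.genLocus L (0 : Coh.structureModule X ⟶ L)) := ⟨⟨_, hη⟩⟩
    exact one_ne_zero (h2.injective (a := 1) (b := 0) (by
      have h3 : sec (0 : Coh.structureModule X ⟶ L) (CohB1.genLocus L (0 : Coh.structureModule X ⟶ L)) = 0 := rfl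
      rw [h3, smul_zero, smul_zero]))
  obtain ⟨Q, hQ⟩ : ∃ Q : X, Q ∉ CohB1.genLocus L s := by
    by_contra hcon
    push Not at hcon
    have h2 : (⊤ : X.Opens) ≤ CohB1.genLocus L s := fun x _ => hcon x
    have h3 : IsIso s := by
      rw [le_genLocus_iff] at h2
      rw [Scheme.Modules.Hom.isIso_iff_isIso_app]
      intro V
      rw [← bijective_iff_isIso_app]
      have h4 := h2 V le_top
      have : (fun a : Γ(X, V) => a • L.presheaf.map (homOfLE (le_top : V ≤ ⊤)).op (sec s ⊤)) = s.app V := by
        funext a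
        rw [map_sec, ← app_eq_smul]
      rwa [this] at h4
    have h4 := SubEuler.deg_congr k (asIso s) 1
    rw [Dix.InterNum.deg_unit] at h4
    omega
  have hQη : Q ≠ genericPoint X := fun h => hQ (h ▸ hη)
  have hQc : IsClosed ({Q} : Set X) := by
    rw [← closure_eq_iff_isClosed]
    apply Set.eq_singleton_iff_unique_mem.mpr
    refine ⟨subset_closure rfl, fun y hy => ?_⟩
    have h2 : Q ⤳ y := specializes_iff_mem_closure.mpr hy
    have hdim' := hdim.le
    rw [dim_le_one_iff] at hdim'
    rcases hdim' Q with h | h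
    · exact h _ h2
    · exact absurd (h _ (genericPoint_specializes _)).symm hQη
  have hreg : IsRegularLocalRing (X.presheaf.stalk Q) := by
    by_contra hn
    exact hQ (hs Q (Or.inl (Or.inr hn)))
  exact ⟨Q, hQc, fun hT' => hQ (hs Q (Or.inl (Or.inl hT'))), hreg, dg_le_deg k hdim hL Q hQc hreg s hQ hs0⟩

/-- An invertible module of least positive degree. -/
theorem exists_min (hdim : topologicalKrullDim X = 1) :
    ∃ L : X.Modules, PicF.IsInvertible L ∧ 0 < Curv2.deg k X L 1 ∧
      ∀ M : X.Modules, PicF.IsInvertible M → 0 < Curv2.deg k X M 1 → Curv2.deg k X L 1 ≤ Curv2.deg k X M 1 := by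
  classical
  obtain ⟨A, hA⟩ := CalgB.ProjField.exists_isAmple_of_dim_le_one (X ↘ (Spec (CommRingCat.of k))) hdim.le
  have hAd := (Groth.Agent.S1530.result k X hdim A hA.1).mp hA
  have hex : ∃ n : ℕ, ∃ L : X.Modules, PicF.IsInvertible L ∧ 0 < Curv2.deg k X L 1 ∧ Curv2.deg k X L 1 = n :=
    ⟨(Curv2.deg k X A 1).toNat, A, hA.1, hAd, by omega⟩
  obtain ⟨L, hL, hLd, hLe⟩ := Nat.find_spec hex
  refine ⟨L, hL, hLd, fun M hM hMd => ?_⟩
  have h := Nat.find_min' hex (m := (Curv2.deg k X M 1).toNat) ⟨M, hM, hMd, by omega⟩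
  omega

end Groth.Agent.Curves.K327.G0Points
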