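import Groth.Agent.Curves.K327.NefInd

/-!
# Nef invertible modules on curves with `H^1(O) = 0` over an algebraically closed field: conclusion
-/

set_option autoImplicit false
universe u
open CategoryTheory CategoryTheory.Limits AlgebraicGeometry TopologicalSpace Opposite

namespace Groth.Agent.Curves.K327.NefMain

open Groth.Agent.CohqB.HSeqMod Groth.Agent.CurvesB.SubH1 Groth.Agent.CurvesB
open Groth.Agent.CurvesB.SubPoint Groth.Agent.CycB.StalkExact NefStep NefInd

variable {k : Type u} [Field k] {W : Scheme.{u}} [W.Over (Spec (CommRingCat.of k))]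

/-- A globally generated invertible module on a nonempty scheme has a nonzero section. -/
theorem exists_section_ne_zero [Nonempty W] {L : W.Modules} (hL : PicF.IsInvertible L)
    (hg : Curv2.IsGloballyGenerated L) : ∃ s : Γ(L, ⊤), s ≠ 0 := by
  by_contra hcon
  push Not at hcon
  refine not_vanAt hL hg (Classical.arbitrary W) fun s => ?_
  rw [hcon s, map_zero]
  exact Submodule.zero_mem _

/-- In dimension at most zero every invertible module is globally generated without `H^1`. -/
theorem dim_zero [IsNoetherian W] (hdim : topologicalKrullDim W ≤ 0) {L : W.Modules}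
    (hL : PicF.IsInvertible L) : Subsingleton (Coh.HH W L 1) ∧ Curv2.IsGloballyGenerated L := by
  refine ⟨Groth.Agent.S0458.result 0 hdim (Coh.toAb L) 1 (by norm_num), ?_⟩
  have hft : CohB1.IsFT L := (isCoh_of_isInvertible hL).2
  have hd : topologicalKrullDim (CohB1.support L) ≤ 0 :=
    (Topology.IsInducing.subtypeVal.topologicalKrullDim_le).trans hdim
  refine VarietyA.GlobGen.isGloballyGenerated_of_finite L (VarietyA.GlobGen.finite_support L hft hd)
    (fun x hx => VarietyA.GlobGen.isClosed_singleton_of_mem_support L hft hd hx) fun x hx => ?_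
  by_contra hn
  exact hx hn

theorem le_zero_of_lt_one {x : WithBot ℕ∞} (h : x < 1) : x ≤ 0 := by
  induction x using WithBot.recBotCoe with
  | bot => exact bot_le
  | coe a =>
    have h' : a < 1 := by exact_mod_cast h
    have := Order.lt_one_iff.mp h'
    rw [this]; rfl

/-- **The base case.** -/
theorem base [IsAlgClosed k] [IsProper (W ↘ (Spec (CommRingCat.of k)))] [IsIntegral W]
    (hdim : topologicalKrullDim W ≤ 1)
    (h1 : Subsingleton (Coh.HH W (Coh.structureModule W) 1)) {L : W.Modules} (hL : PicF.IsInvertible L)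
    (hdeg : topologicalKrullDim W = 1 → 0 ≤ Curv2.deg k W L 1) :
    Subsingleton (Coh.HH W L 1) ∧ Curv2.IsGloballyGenerated L := by
  have hN := CurvesC.CurveCoh.noetherianSpace k W
  rcases hdim.lt_or_eq with h | h
  · exact dim_zero (le_zero_of_lt_one h) hL
  · have hgg : Curv2.IsGloballyGenerated L := by
      refine Groth.Agent.S1533.result k W h (VarietyA.CurveFin.finrank_h0_structure k W) L hL ?_
      have hg : Curv2.genus k W = 0 := Module.finrank_zero_of_subsingleton
      rw [hg]
      simpa using hdeg h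
    obtain ⟨s, hs⟩ := exists_section_ne_zero hL hgg
    exact ⟨CurvesC.CurveCoh.h1_of_section hdim hL s hs h1, hgg⟩

/-- `H^1` of the restriction to a closed subscheme in dimension at most one. -/
theorem subsingleton_H1_pullback {X : Scheme.{u}} [X.Over (Spec (CommRingCat.of k))] [IsNoetherian X]
    (hdim : topologicalKrullDim X ≤ 1)
    (g : W ⟶ X) [IsClosedImmersion g] (hg : g ≫ (X ↘ (Spec (CommRingCat.of k))) = W ↘ (Spec (CommRingCat.of k)))
    {M : X.Modules} (hM : Coh.IsQCoh M) (h1 : Subsingleton (Coh.HH X M 1)) :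
    Subsingleton (Coh.HH W ((Scheme.Modules.pullback g).obj M) 1) := by
  have h2 := hmap_one_surjective_of_epi hdim (SubClosed.unitι g M)
  have h3 := @Function.Surjective.subsingleton _ _ _ h1 h2
  obtain ⟨e⟩ := VarietyB.HHPush.exists_linearEquiv g k hg ((Scheme.Modules.pullback g).obj M)
    (FormalA.PullbackQC.isQCoh_pullback _ M hM) 1
  exact e.symm.toEquiv.subsingleton

/-- `H^1(O)` of a closed subscheme in dimension at most one. -/
theorem subsingleton_H1_structure {X : Scheme.{u}} [X.Over (Spec (CommRingCat.of k))] [IsNoetherian X]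
    (hdim : topologicalKrullDim X ≤ 1)
    (g : W ⟶ X) [IsClosedImmersion g] (hg : g ≫ (X ↘ (Spec (CommRingCat.of k))) = W ↘ (Spec (CommRingCat.of k)))
    (h1 : Subsingleton (Coh.HH X (Coh.structureModule X) 1)) :
    Subsingleton (Coh.HH W (Coh.structureModule W) 1) := by
  have := subsingleton_H1_pullback hdim g hg (Fdesc.StructMod.isCoh_structureModule X).1 h1
  exact (Fga.EulerIso.HHequiv k (PerfB.TensUnit.pullbackUnit g) 1).symm.toEquiv.subsingleton

/-- **Nef invertible modules over an algebraically closed field**, all closed subschemes at once. -/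
theorem main [IsAlgClosed k] {X : Scheme.{u}} [X.Over (Spec (CommRingCat.of k))]
    [IsProper (X ↘ (Spec (CommRingCat.of k)))] (hdim : topologicalKrullDim X ≤ 1)
    (h1 : Subsingleton (Coh.HH X (Coh.structureModule X) 1)) {L : X.Modules} (hL : PicF.IsInvertible L)
    (hnef : ∀ J : X.IdealSheafData, IsIntegral J.subscheme → topologicalKrullDim J.subscheme = 1 →
      0 ≤ @Curv2.deg k _ J.subscheme ⟨J.subschemeι ≫ (X ↘ (Spec (CommRingCat.of k)))⟩
        ((Scheme.Modules.pullback J.subschemeι).obj L) 1) (I : X.IdealSheafData) :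
    ∀ (W : Scheme.{u}) (g : W ⟶ X) [IsClosedImmersion g], g.ker = I →
      Subsingleton (Coh.HH W ((Scheme.Modules.pullback g).obj L) 1) ∧
        Curv2.IsGloballyGenerated ((Scheme.Modules.pullback g).obj L) := by
  have hN := CurvesC.CurveCoh.noetherianSpace k X
  have hwf := Divis.ColonIdeal.wellFoundedGT (X := X)
  refine WellFoundedGT.induction (motive := fun I => ∀ (W : Scheme.{u}) (g : W ⟶ X) [IsClosedImmersion g], g.ker = I →
      Subsingleton (Coh.HH W ((Scheme.Modules.pullback g).obj L) 1) ∧
        Curv2.IsGloballyGenerated ((Scheme.Modules.pullback g).obj L)) I ?_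
  intro I IH W g _ hker
  let : W.Over (Spec (CommRingCat.of k)) := ⟨g ≫ (X ↘ (Spec (CommRingCat.of k)))⟩
  have hg : g ≫ (X ↘ (Spec (CommRingCat.of k))) = W ↘ (Spec (CommRingCat.of k)) := rfl
  have hp : IsProper (W ↘ (Spec (CommRingCat.of k))) := inferInstanceAs (IsProper (g ≫ _))
  have hNW := CurvesC.CurveCoh.noetherianSpace k W
  have hdW : topologicalKrullDim W ≤ 1 :=
    (g.isClosedEmbedding.isInducing.topologicalKrullDim_le).trans hdim
  have hLW := CycB.C1Pull.isInvertible_pullback g hL
  refine step (k := k) hdW (subsingleton_H1_structure hdim g hg h1) hLW ?_ ?_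
  · intro J hJ
    have h2 := (IH (J.subschemeι ≫ g).ker (hker ▸ ker_lt g J hJ) J.subscheme (J.subschemeι ≫ g) rfl).2
    exact Ega2.GlobGenCrit.isGloballyGenerated_of_iso ((Scheme.Modules.pullbackComp J.subschemeι g).app L).symm h2
  · intro J hJ
    let : J.subscheme.Over (Spec (CommRingCat.of k)) := ⟨(J.subschemeι ≫ g) ≫ (X ↘ (Spec (CommRingCat.of k)))⟩
    have hgJ : (J.subschemeι ≫ g) ≫ (X ↘ (Spec (CommRingCat.of k))) = J.subscheme ↘ (Spec (CommRingCat.of k)) := rfl
    have hpJ : IsProper (J.subscheme ↘ (Spec (CommRingCat.of k))) := inferInstanceAs (IsProper ((J.subschemeι ≫ g) ≫ _))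
    have hdJ : topologicalKrullDim J.subscheme ≤ 1 :=
      ((J.subschemeι ≫ g).isClosedEmbedding.isInducing.topologicalKrullDim_le).trans hdim
    have h2 := base (k := k) hdJ (subsingleton_H1_structure hdim (J.subschemeι ≫ g) hgJ h1)
      (CycB.C1Pull.isInvertible_pullback (J.subschemeι ≫ g) hL) (fun hd => by
        rw [← SubEuler.deg_ker (J.subschemeι ≫ g) k hgJ L (isCoh_of_isInvertible hL).1 1]
        refine hnef _ ?_ ?_
        · have : Nonempty (J.subschemeι ≫ g).ker.subscheme :=
            ⟨SubEuler.toKer (J.subschemeι ≫ g) (Classical.arbitrary J.subscheme)⟩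
          exact isIntegral_of_isOpenImmersion (inv (SubEuler.toKer (J.subschemeι ≫ g)))
        · rw [SubEuler.topologicalKrullDim_ker, hd])
    let e := (Scheme.Modules.pullbackComp J.subschemeι g).app L
    have h3 : Subsingleton (Coh.HH J.subscheme ((Scheme.Modules.pullback (J.subschemeι ≫ g)).obj L) 1) := h2.1
    exact ⟨@Equiv.subsingleton _ _ (Fga.EulerIso.HHequiv k e 1).toEquiv h3,
      Ega2.GlobGenCrit.isGloballyGenerated_of_iso e.symm h2.2⟩

end Groth.Agent.Curves.K327.NefMain
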