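import Groth.Agent.Divis.ColonIdeal
import Groth.Agent.CurvesC.DualIdeals
import Groth.Agent.PerfA.IdealModule
import Mathlib.RingTheory.Ideal.AssociatedPrime.Localization

/-!
# The annihilator of the ideal of an irreducible component is not zero

On a locally Noetherian scheme the ideal sheaf of (the reduced subscheme on) an irreducible component has
nonzero annihilator.
-/

set_option autoImplicit false
universe u
open CategoryTheory CategoryTheory.Limits AlgebraicGeometry TopologicalSpace Opposite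

namespace Groth.Agent.Curves.K327.AnnComp

open Groth.Agent.Divis.ColonIdeal

theorem exists_ann {A : Type*} [CommRing A] [IsNoetherianRing A] {p : Ideal A}
    (hp : p ∈ minimalPrimes A) : ∃ a : A, a ≠ 0 ∧ ∀ b ∈ p, a * b = 0 := by
  have hprime : p.IsPrime := hp.1.1
  have h1 : p ∈ (Module.annihilator A A).minimalPrimes := by
    have : Module.annihilator A A = ⊥ := by
      rw [eq_bot_iff]
      intro a ha
      have := (Module.mem_annihilator.mp ha) (1 : A)
      simpa using this
    rw [this]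
    exact hp
  have h2 := Module.associatedPrimes.minimalPrimes_annihilator_subset_associatedPrimes A A h1
  obtain ⟨-, a, ha⟩ := Submodule.isAssociatedPrime_iff.mp h2
  have hm : ∀ b : A, b ∈ p ↔ b * a = 0 := by
    intro b
    rw [ha, Submodule.mem_colon_singleton]
    simp
  refine ⟨a, ?_, ?_⟩
  · rintro rfl
    apply hprime.ne_top
    rw [Ideal.eq_top_iff_one, hm, mul_zero]
  · intro b hb
    rw [mul_comm]
    exact (hm b).mp hb

variable {X : Scheme.{u}}

theorem primeIdealOf_mem_minimalPrimes {U : X.Opens} (hU : IsAffineOpen U) {ξ : X} (hξU : ξ ∈ U)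
    (hξ : ∀ y : X, y ⤳ ξ → y = ξ) : (hU.primeIdealOf ⟨ξ, hξU⟩).asIdeal ∈ minimalPrimes Γ(X, U) := by
  refine ⟨⟨(hU.primeIdealOf ⟨ξ, hξU⟩).isPrime, bot_le⟩, ?_⟩
  rintro q ⟨hq, -⟩ hle
  let q' : Spec Γ(X, U) := ⟨q, hq⟩
  have h1 : q' ⤳ hU.primeIdealOf ⟨ξ, hξU⟩ := (PrimeSpectrum.le_iff_specializes _ _).mp hle
  have h2 : hU.fromSpec q' ⤳ hU.fromSpec (hU.primeIdealOf ⟨ξ, hξU⟩) := h1.map hU.fromSpec.continuous
  rw [hU.fromSpec_primeIdealOf] at h2
  have h3 := hξ _ h2
  have h4 : hU.fromSpec q' = hU.fromSpec (hU.primeIdealOf ⟨ξ, hξU⟩) := by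
    rw [hU.fromSpec_primeIdealOf, h3]
  have h5 : q' = hU.primeIdealOf ⟨ξ, hξU⟩ := hU.fromSpec.isOpenEmbedding.injective h4
  rw [← h5]

/-- The annihilator of the ideal of the closure of a maximal point. -/
noncomputable def ann [IsLocallyNoetherian X] (D : X.IdealSheafData) : X.IdealSheafData :=
  colonSheaf ⊥ D fun U => by
    have : IsNoetherianRing Γ(X, U.1) := IsLocallyNoetherian.component_noetherian U
    exact IsNoetherian.noetherian _

theorem mem_ann [IsLocallyNoetherian X] (D : X.IdealSheafData) (U : X.affineOpens) (a : Γ(X, U.1)) :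
    a ∈ (ann D).ideal U ↔ ∀ b ∈ D.ideal U, a * b = 0 := by
  change (∀ b ∈ D.ideal U, a * b ∈ (⊥ : X.IdealSheafData).ideal U) ↔ _
  simp

theorem ann_ne_bot [IsLocallyNoetherian X] {ξ : X} (hξ : ∀ y : X, y ⤳ ξ → y = ξ) :
    ann (Scheme.IdealSheafData.vanishingIdeal ⟨closure {ξ}, isClosed_closure⟩) ≠ (⊥ : X.IdealSheafData) := by
  intro h
  obtain ⟨U, hU, hξU⟩ := exists_isAffineOpen_mem_and_subset (x := ξ) (U := ⊤) trivial
  have : IsNoetherianRing Γ(X, U) := IsLocallyNoetherian.component_noetherian ⟨U, hU⟩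
  obtain ⟨a, ha, hab⟩ := exists_ann (primeIdealOf_mem_minimalPrimes hU hξU.1 hξ)
  apply ha
  have h1 : a ∈ (ann (Scheme.IdealSheafData.vanishingIdeal ⟨closure {ξ}, isClosed_closure⟩)).ideal ⟨U, hU⟩ := by
    rw [mem_ann]
    intro b hb
    apply hab
    rw [CurvesC.DualIdeals.mem_vanishingIdeal_iff] at hb
    have h2 := hb ξ (subset_closure rfl)
    by_contra h3
    apply h2
    have h4 : (hU.primeIdealOf ⟨ξ, hξU.1⟩) ∈ PrimeSpectrum.basicOpen b := h3
    have h5 : hU.fromSpec ⁻¹ᵁ X.basicOpen b = PrimeSpectrum.basicOpen b := hU.fromSpec_preimage_basicOpen b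
    rw [← h5] at h4
    have h6 : hU.fromSpec (hU.primeIdealOf ⟨ξ, hξU.1⟩) ∈ X.basicOpen b := h4
    rwa [hU.fromSpec_primeIdealOf] at h6
  rw [h] at h1
  simpa using h1

/-- The ideal module of `D` is killed by the annihilator of `D`. -/
theorem killed [IsLocallyNoetherian X] (D : X.IdealSheafData) :
    ClSub.KilledByIdeal (ann D) (ClSub.idealMod D) := by
  intro U a ha m
  apply PerfA.IdealModule.val_injective D U.1
  refine Eq.trans ?_ (PerfA.IdealModule.val_zero D).symm
  refine (PerfA.IdealModule.val_smul D a m).trans ?_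
  exact (mem_ann D U a).mp ha _ (PerfA.IdealModule.val_mem D U m)

end Groth.Agent.Curves.K327.AnnComp
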