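import Groth.Agent.Curves.K327.NefMain
import Groth.Agent.CalgB.ProjField
import Groth.Agent.S1530
import Groth.Agent.Old.H24.LinearSeries
import Groth.Agent.CurvesB.VABaseChange
import Groth.Agent.CalgB.AmpleBase
import Groth.Agent.CycB.ImageInt
import Groth.Agent.Ega3B.PullTensor
import Groth.Agent.S1646
import Groth.Agent.Fdesc.LocGenTensor

/-!
# Nef invertible modules on curves with `H^1(O) = 0` over any field
-/

set_option autoImplicit false
universe u
open CategoryTheory CategoryTheory.Limits AlgebraicGeometry TopologicalSpace Opposite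

namespace Groth.Agent.Curves.K327.NefBC

open Groth.Agent.CurvesB

variable {k K : Type u} [Field k] [Field K]

/-- Twisting. -/
theorem exists_twist {C C' : Scheme.{u}} [C.Over (Spec (CommRingCat.of k))]
    [C'.Over (Spec (CommRingCat.of K))] [IsIntegral C] [IsIntegral C']
    [IsProper (C ↘ (Spec (CommRingCat.of k)))] [IsProper (C' ↘ (Spec (CommRingCat.of K)))]
    (hdim : topologicalKrullDim C ≤ 1) (hdim' : topologicalKrullDim C' ≤ 1) (q : C' ⟶ C)
    {L M : C.Modules} (hL : PicF.IsInvertible L) (hM : PicF.IsInvertible M) (n : ℕ) :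
    ∃ N : C.Modules, PicF.IsInvertible N ∧ Curv2.deg k C N 1 = Curv2.deg k C M 1 + n * Curv2.deg k C L 1 ∧
      Curv2.deg K C' ((Scheme.Modules.pullback q).obj N) 1 =
        Curv2.deg K C' ((Scheme.Modules.pullback q).obj M) 1 +
          n * Curv2.deg K C' ((Scheme.Modules.pullback q).obj L) 1 := by
  induction n with
  | zero => exact ⟨M, hM, by simp, by simp⟩
  | succ n ih =>
    obtain ⟨N, hN, h1, h2⟩ := ih
    refine ⟨CohB1.tensorMod N L, Fdesc.LocGen.isInvertible_tensorMod hN hL, ?_, ?_⟩
    · rw [Old.H24.LinearSeries.deg_tensor k hdim hN hL, h1]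
      push_cast
      ring
    · rw [SubEuler.deg_congr K (Ega3B.PullTensor.pullTensorIso q hN hL) 1,
        Old.H24.LinearSeries.deg_tensor K hdim' (CycB.C1Pull.isInvertible_pullback q hN)
          (CycB.C1Pull.isInvertible_pullback q hL), h2]
      push_cast
      ring

/-- **Nonnegative degree is preserved by affine pullback** (between integral curves over possibly different
fields). -/
theorem deg_nonneg_pullback {C C' : Scheme.{u}} [C.Over (Spec (CommRingCat.of k))]
    [C'.Over (Spec (CommRingCat.of K))] [IsIntegral C] [IsIntegral C']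
    [IsProper (C ↘ (Spec (CommRingCat.of k)))] [IsProper (C' ↘ (Spec (CommRingCat.of K)))]
    (hdim : topologicalKrullDim C = 1) (hdim' : topologicalKrullDim C' = 1) (q : C' ⟶ C) [IsAffineHom q]
    {L : C.Modules} (hL : PicF.IsInvertible L) (hdeg : 0 ≤ Curv2.deg k C L 1) :
    0 ≤ Curv2.deg K C' ((Scheme.Modules.pullback q).obj L) 1 := by
  obtain ⟨M, hM⟩ := CalgB.ProjField.exists_isAmple_of_dim_le_one (C ↘ (Spec (CommRingCat.of k))) hdim.le
  by_contra hcon
  rw [not_le] at hcon
  obtain ⟨n, hn⟩ : ∃ n : ℕ, Curv2.deg K C' ((Scheme.Modules.pullback q).obj M) 1 ≤ n :=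
    ⟨_, Int.self_le_toNat _⟩
  obtain ⟨N, hN, h1, h2⟩ := exists_twist (k := k) (K := K) hdim.le hdim'.le q hL hM.1 n
  have hNA : CohB1.IsAmple N := by
    rw [Groth.Agent.S1530.result k C hdim N hN, h1]
    have h3 := (Groth.Agent.S1530.result k C hdim M hM.1).mp hM
    positivity
  have hNA' : CohB1.IsAmple ((Scheme.Modules.pullback q).obj N) :=
    CalgB.AmpleBase.isAmple_pullback q hNA fun _ => ⟨⊤, trivial, fun _ _ hV => hV.preimage q⟩
  rw [Groth.Agent.S1530.result K C' hdim' _ hNA'.1, h2] at hNA'
  nlinarith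

section Main

variable [Algebra k K] {X X' : Scheme.{u}} [X.Over (Spec (CommRingCat.of k))]
  [X'.Over (Spec (CommRingCat.of K))] {p : X' ⟶ X}

/-- Nefness is preserved by algebraic extension of the base field. -/
theorem nef_bc [Algebra.IsAlgebraic k K] [IsProper (X ↘ (Spec (CommRingCat.of k)))]
    (hpb : IsPullback p (X' ↘ Spec (CommRingCat.of K)) (X ↘ Spec (CommRingCat.of k))
      (Spec.map (CommRingCat.ofHom (algebraMap k K))))
    {L : X.Modules} (hL : PicF.IsInvertible L)
    (hnef : ∀ J : X.IdealSheafData, IsIntegral J.subscheme → topologicalKrullDim J.subscheme = 1 →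
      0 ≤ @Curv2.deg k _ J.subscheme ⟨J.subschemeι ≫ (X ↘ (Spec (CommRingCat.of k)))⟩
        ((Scheme.Modules.pullback J.subschemeι).obj L) 1)
    (J : X'.IdealSheafData) (hJ : IsIntegral J.subscheme) (hJd : topologicalKrullDim J.subscheme = 1) :
    0 ≤ @Curv2.deg K _ J.subscheme ⟨J.subschemeι ≫ (X' ↘ (Spec (CommRingCat.of K)))⟩
        ((Scheme.Modules.pullback J.subschemeι).obj ((Scheme.Modules.pullback p).obj L)) 1 := by
  have hp : IsProper (X' ↘ (Spec (CommRingCat.of K))) := VABaseChange.isProper hpb
  have hpi : IsIntegralHom p := VABaseChange.isIntegralHom hpb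
  let : J.subscheme.Over (Spec (CommRingCat.of K)) := ⟨J.subschemeι ≫ (X' ↘ (Spec (CommRingCat.of K)))⟩
  have hpJ : IsProper (J.subscheme ↘ (Spec (CommRingCat.of K))) := inferInstanceAs (IsProper (J.subschemeι ≫ _))
  let q₀ : J.subscheme ⟶ X := J.subschemeι ≫ p
  have hq₀ : IsIntegralHom q₀ := inferInstance
  let I : X.IdealSheafData := q₀.ker
  let q : J.subscheme ⟶ I.subscheme := q₀.toImage
  have hq : q ≫ I.subschemeι = q₀ := q₀.toImage_imageι
  have hI : IsIntegral I.subscheme := CycB.ImageInt.isIntegral_image q₀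
  have hqi : IsIntegralHom q := by
    have : IsIntegralHom (q ≫ I.subschemeι) := by rw [hq]; exact hq₀
    exact IsIntegralHom.of_comp q I.subschemeι
  have hqs : Surjective q := by
    have hd : DenseRange q := Scheme.Hom.denseRange q₀.toImage
    constructor
    intro y
    have h1 := hd.closure_range
    rw [q.isClosedMap.isClosed_range.closure_eq] at h1
    have h2 : y ∈ Set.range q := by rw [h1]; trivial
    exact h2
  have hId : topologicalKrullDim I.subscheme = 1 := by
    rw [← Sga3C.DimTop.topologicalKrullDim_eq_of_isIntegralHom q]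
    exact hJd
  let : I.subscheme.Over (Spec (CommRingCat.of k)) := ⟨I.subschemeι ≫ (X ↘ (Spec (CommRingCat.of k)))⟩
  have hpI : IsProper (I.subscheme ↘ (Spec (CommRingCat.of k))) := inferInstanceAs (IsProper (I.subschemeι ≫ _))
  have h1 := deg_nonneg_pullback (k := k) (K := K) hId hJd q (CycB.C1Pull.isInvertible_pullback I.subschemeι hL)
    (hnef I hI hId)
  refine h1.trans_eq (SubEuler.deg_congr K ?_ 1)
  exact (Scheme.Modules.pullbackComp q I.subschemeι).app L ≪≫
    (Scheme.Modules.pullbackCongr hq).app L ≪≫ ((Scheme.Modules.pullbackComp J.subschemeι p).app L).symm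

end Main

/-- **Nef invertible modules on curves with `H^1(O) = 0`.** -/
theorem main (k : Type u) [Field k] (X : Scheme.{u}) [X.Over (Spec (CommRingCat.of k))]
    [IsProper (X ↘ (Spec (CommRingCat.of k)))] (hdim : topologicalKrullDim X ≤ 1)
    (h1 : Subsingleton (Coh.HH X (Coh.structureModule X) 1))
    (L : X.Modules) (hL : PicF.IsInvertible L)
    (hnef : ∀ J : X.IdealSheafData, IsIntegral J.subscheme → topologicalKrullDim J.subscheme = 1 →
      0 ≤ @Curv2.deg k _ J.subscheme ⟨J.subschemeι ≫ (X ↘ (Spec (CommRingCat.of k)))⟩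
        ((Scheme.Modules.pullback J.subschemeι).obj L) 1) :
    Subsingleton (Coh.HH X L 1) ∧ Curv2.IsGloballyGenerated L := by
  let K := AlgebraicClosure k
  let X' := Curv2.bc k X K
  let p : X' ⟶ X := Curv2.bcFst k X K
  let : X'.Over (Spec (CommRingCat.of K)) := VABaseChange.overBc k X K
  have hpb : IsPullback p (X' ↘ Spec (CommRingCat.of K)) (X ↘ Spec (CommRingCat.of k))
      (Spec.map (CommRingCat.ofHom (algebraMap k K))) := VABaseChange.isPullback_bc k X K
  have hp : IsProper (X' ↘ (Spec (CommRingCat.of K))) := VABaseChange.isProper hpb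
  have hd' : topologicalKrullDim X' ≤ 1 := (VABaseChange.topologicalKrullDim_eq hpb).trans_le hdim
  have hLc := SubPoint.isCoh_of_isInvertible hL
  have h1' : Subsingleton (Coh.HH X' (Coh.structureModule X') 1) := by
    have hf := VarietyA.CurveFin.finite_HH_structure K X' 1
    have h2 := VABaseChange.finrank_structure_eq hpb 1
    rw [show Module.finrank k (Coh.HH X (Coh.structureModule X) 1) = 0 from Module.finrank_zero_of_subsingleton] at h2
    exact Module.finrank_zero_iff.mp h2
  have hL' : PicF.IsInvertible ((Scheme.Modules.pullback p).obj L) := CycB.C1Pull.isInvertible_pullback p hL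
  obtain ⟨h3, h4⟩ := NefMain.main (k := K) hd' h1' hL' (nef_bc hpb hL hnef) _ X' (𝟙 X') rfl
  constructor
  · have hf := VarietyA.CurveFin.finite_HH k X hL 1
    have h5 : Subsingleton (Coh.HH X' ((Scheme.Modules.pullback p).obj L) 1) :=
      @Equiv.subsingleton _ _ (Fga.EulerIso.HHequiv K
        ((Scheme.Modules.pullbackId X').app ((Scheme.Modules.pullback p).obj L)) 1).symm.toEquiv h3
    have h6 := VABaseChange.finrank_eq hpb L hLc.1 1
    rw [show Module.finrank K (Coh.HH X' ((Scheme.Modules.pullback p).obj L) 1) = 0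
      from Module.finrank_zero_of_subsingleton] at h6
    exact Module.finrank_zero_iff.mp h6.symm
  · have h5 : Curv2.IsGloballyGenerated ((Scheme.Modules.pullback p).obj L) :=
      Ega2.GlobGenCrit.isGloballyGenerated_of_iso
        ((Scheme.Modules.pullbackId X').app ((Scheme.Modules.pullback p).obj L)) h4
    exact (Groth.Agent.S1646.result k K X (X ↘ (Spec (CommRingCat.of k))) L hLc.1).mpr h5

end Groth.Agent.Curves.K327.NefBC
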