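import Groth.Agent.Curves.K327.TwoSec
import Groth.Agent.Curves.K327.NefBC
import Mathlib.AlgebraicGeometry.Morphisms.ClosedImmersion

/-!
# Invertible modules on integral curves with `H^1(O) = 0`: nonnegative degree and degree zero
-/

set_option autoImplicit false
universe u
open CategoryTheory CategoryTheory.Limits AlgebraicGeometry TopologicalSpace Opposite

namespace Groth.Agent.Curves.K327.G0Deg

open Groth.Agent.CohqB.HSeqMod Groth.Agent.CurvesB.SubH1 Groth.Agent.CurvesC.Gen NefStep NefInd
open Groth.Agent.CurvesB Groth.Agent.CurvesB.SubPoint Groth.Agent.Ega2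
open Groth.Agent.CurvesB.RankOne Groth.Agent.CurvesB.InvEmb Groth.Agent.CurvesB.CurveRR
open Groth.Agent.VarietyA.EulerLES Groth.Agent.Old.H24.LinearSeries

variable (k : Type u) [Field k] {X : Scheme.{u}} [X.Over (Spec (CommRingCat.of k))]

section Basic

variable [IsIntegral X] [IsProper (X ↘ (Spec (CommRingCat.of k)))]

/-- An invertible module with a nonzero section has nonnegative degree. -/
theorem deg_nonneg_of_section (hdim : topologicalKrullDim X ≤ 1) {L : X.Modules} (hL : PicF.IsInvertible L)
    (s : Coh.structureModule X ⟶ L) (hs0 : s ≠ 0) : 0 ≤ Curv2.deg k X L 1 := by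
  have := isNoetherian_of_proper k X
  have hmono : Mono s := mono_of_ne_zero (locEmb_of_isInvertible hL) s hs0
  let S : ShortComplex X.Modules := ShortComplex.mk s (cokernel.π s) (cokernel.condition s)
  have hS : S.ShortExact :=
    { exact := ShortComplex.exact_of_g_is_cokernel _ (cokernelIsCokernel s)
      mono_f := hmono
      epi_g := inferInstanceAs (Epi (cokernel.π s)) }
  have hT : IsTors (cokernel s) :=
    isTors_of_epi (locEmb_of_isInvertible hL) s hs0 (cokernel.π s) (cokernel.condition s)
  have hT1 : Subsingleton (Coh.HH X S.X₃ 1) := hT.subsingleton_HH hdim 0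
  have fO0 : Module.Finite k (Coh.HH X S.X₁ 0) := finite_H k Fdesc.LocGen.isInvertible_structureModule 0
  have fO1 : Module.Finite k (Coh.HH X S.X₁ 1) := finite_H k Fdesc.LocGen.isInvertible_structureModule 1
  have fL0 : Module.Finite k (Coh.HH X S.X₂ 0) := finite_H k hL 0
  have fQ0 : Module.Finite k (Coh.HH X S.X₃ 0) := by
    have e := (exactA₃ k S hS 0 1 rfl)
    have : Module.Finite k (LinearMap.range (deltaA k S hS 0 1 rfl)) := inferInstance
    refine Module.Finite.of_exact (f := mapA k S.g 0) (g := (deltaA k S hS 0 1 rfl).rangeRestrict) ?_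
      (LinearMap.surjective_rangeRestrict _)
    intro y
    rw [← e y]
    exact ⟨fun h => congrArg Subtype.val h, fun h => Subtype.ext h⟩
  have hcount := finrank_of_shortExact k S hS hT1
  have hdeg := deg_eq k X hdim L
  have e1 : Module.finrank k (Coh.HH X S.X₁ 0) = Module.finrank k (Coh.HH X (Coh.structureModule X) 0) := rfl
  have e1' : Module.finrank k (Coh.HH X S.X₁ 1) = Curv2.genus k X := rfl
  have e2 : Module.finrank k (Coh.HH X S.X₂ 0) = Module.finrank k (Coh.HH X L 0) := rfl
  have e2' : Module.finrank k (Coh.HH X S.X₂ 1) = Module.finrank k (Coh.HH X L 1) := rfl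
  rw [e1, e1', e2, e2'] at hcount
  rw [hdeg]
  omega

end Basic

/-- A closed integral subscheme of dimension one of an integral scheme of dimension at most one is everything. -/
theorem isIso_subschemeι {X : Scheme.{u}} [IsIntegral X] (hdim : topologicalKrullDim X ≤ 1) (J : X.IdealSheafData)
    (hJ : IsIntegral J.subscheme) (hJd : topologicalKrullDim J.subscheme = 1) : IsIso J.subschemeι := by
  have h1 : ∃ a b : J.subscheme, a ⤳ b ∧ a ≠ b := by
    by_contra hcon
    push Not at hcon
    have h0 : topologicalKrullDim J.subscheme ≤ 0 := by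
      rw [dim_nonpos_iff]
      intro a b hab
      exact (hcon a b hab).symm
    rw [hJd] at h0
    exact absurd h0 (by decide)
  obtain ⟨a, b, hab, hne⟩ := h1
  have h2 : J.subschemeι a ⤳ J.subschemeι b := hab.map J.subschemeι.continuous
  have h3 : J.subschemeι b ≠ J.subschemeι a := fun h => hne (J.subschemeι.isClosedEmbedding.injective h.symm)
  rw [dim_le_one_iff] at hdim
  rcases hdim (J.subschemeι a) with h | h
  · exact absurd (h _ h2) h3
  · have h4 : genericPoint X = J.subschemeι a := h _ (genericPoint_specializes _)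
    have hs : Surjective J.subschemeι := by
      constructor
      intro x
      have h5 : J.subschemeι a ⤳ x := h4 ▸ genericPoint_specializes x
      exact h5.mem_closed J.subschemeι.isClosedEmbedding.isClosed_range ⟨a, rfl⟩
    exact isIso_of_isClosedImmersion_of_surjective J.subschemeι

variable [IsIntegral X] [IsProper (X ↘ (Spec (CommRingCat.of k)))]

/-- Nonnegative degree is nef. -/
theorem nef_of_deg_nonneg (hdim : topologicalKrullDim X ≤ 1) {L : X.Modules} (hL : PicF.IsInvertible L)
    (hd : 0 ≤ Curv2.deg k X L 1) (J : X.IdealSheafData) (hJ : IsIntegral J.subscheme)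
    (hJd : topologicalKrullDim J.subscheme = 1) :
    0 ≤ @Curv2.deg k _ J.subscheme ⟨J.subschemeι ≫ (X ↘ (Spec (CommRingCat.of k)))⟩
        ((Scheme.Modules.pullback J.subschemeι).obj L) 1 := by
  have := isIso_subschemeι hdim J hJ hJd
  let : J.subscheme.Over (Spec (CommRingCat.of k)) := ⟨J.subschemeι ≫ (X ↘ (Spec (CommRingCat.of k)))⟩
  rw [SubEuler.deg_pullback J.subschemeι k rfl L (isCoh_of_isInvertible hL).1 1]
  exact hd

/-- Nonnegative degree implies `H^1(L) = 0` and globally generated. -/
theorem gg_of_deg_nonneg (hdim : topologicalKrullDim X ≤ 1)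
    (h1 : Subsingleton (Coh.HH X (Coh.structureModule X) 1)) {L : X.Modules} (hL : PicF.IsInvertible L)
    (hd : 0 ≤ Curv2.deg k X L 1) : Subsingleton (Coh.HH X L 1) ∧ Curv2.IsGloballyGenerated L :=
  NefBC.main k X hdim h1 L hL (nef_of_deg_nonneg k hdim hL hd)

/-- A section of a globally generated module of degree zero is everywhere generating. -/
theorem isIso_of_deg_zero (hdim : topologicalKrullDim X ≤ 1)
    (h1 : Subsingleton (Coh.HH X (Coh.structureModule X) 1)) {L : X.Modules} (hL : PicF.IsInvertible L)
    (hd : Curv2.deg k X L 1 = 0) (s : Coh.structureModule X ⟶ L) (hs0 : s ≠ 0) : IsIso s := by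
  have := isNoetherian_of_proper k X
  obtain ⟨hL1, hgg⟩ := gg_of_deg_nonneg k hdim h1 hL hd.ge
  have hmono : Mono s := mono_of_ne_zero (locEmb_of_isInvertible hL) s hs0
  let S : ShortComplex X.Modules := ShortComplex.mk s (cokernel.π s) (cokernel.condition s)
  have hS : S.ShortExact :=
    { exact := ShortComplex.exact_of_g_is_cokernel _ (cokernelIsCokernel s)
      mono_f := hmono
      epi_g := inferInstanceAs (Epi (cokernel.π s)) }
  have hT : IsTors (cokernel s) :=
    isTors_of_epi (locEmb_of_isInvertible hL) s hs0 (cokernel.π s) (cokernel.condition s)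
  have hT1 : Subsingleton (Coh.HH X S.X₃ 1) := hT.subsingleton_HH hdim 0
  have fO0 : Module.Finite k (Coh.HH X S.X₁ 0) := finite_H k Fdesc.LocGen.isInvertible_structureModule 0
  have fO1 : Module.Finite k (Coh.HH X S.X₁ 1) := finite_H k Fdesc.LocGen.isInvertible_structureModule 1
  have fL0 : Module.Finite k (Coh.HH X S.X₂ 0) := finite_H k hL 0
  have fQ0 : Module.Finite k (Coh.HH X S.X₃ 0) := by
    have e := (exactA₃ k S hS 0 1 rfl)
    have : Module.Finite k (LinearMap.range (deltaA k S hS 0 1 rfl)) := inferInstance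
    refine Module.Finite.of_exact (f := mapA k S.g 0) (g := (deltaA k S hS 0 1 rfl).rangeRestrict) ?_
      (LinearMap.surjective_rangeRestrict _)
    intro y
    rw [← e y]
    exact ⟨fun h => congrArg Subtype.val h, fun h => Subtype.ext h⟩
  have hcount := finrank_of_shortExact k S hS hT1
  have hdeg := deg_eq k X hdim L
  have e1 : Module.finrank k (Coh.HH X S.X₁ 0) = Module.finrank k (Coh.HH X (Coh.structureModule X) 0) := rfl
  have e1' : Module.finrank k (Coh.HH X S.X₁ 1) = Curv2.genus k X := rfl
  have e2 : Module.finrank k (Coh.HH X S.X₂ 0) = Module.finrank k (Coh.HH X L 0) := rfl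
  have e2' : Module.finrank k (Coh.HH X S.X₂ 1) = Module.finrank k (Coh.HH X L 1) := rfl
  rw [e1, e1', e2, e2'] at hcount
  have hC0 : Module.finrank k (Coh.HH X S.X₃ 0) = 0 := by omega
  have hC1 : Subsingleton (Coh.HH X (cokernel s) 0) := by
    have : Subsingleton (Coh.HH X S.X₃ 0) := Module.finrank_zero_iff.mp hC0
    exact this
  have hCz : IsZero (cokernel s) := by
    refine Fga.PosZero.isZero_of_globallyGenerated _ ?_ fun c => ?_
    · obtain ⟨I, p, hp⟩ := hgg
      refine ⟨I, p ≫ cokernel.π s, ?_⟩
      have h2 : Epi (cokernel.π s) := hS.epi_g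
      exact @epi_comp X.Modules _ _ _ _ p hp (cokernel.π s) h2
    · apply (HZero.equivAdd (cokernel s)).symm.injective
      exact Subsingleton.elim _ _
  have : Epi s := Preadditive.epi_of_isZero_cokernel s hCz
  exact isIso_of_mono_of_epi s

/-- An invertible module of degree zero is trivial. -/
theorem iso_of_deg_zero (hdim : topologicalKrullDim X ≤ 1)
    (h1 : Subsingleton (Coh.HH X (Coh.structureModule X) 1)) {L : X.Modules} (hL : PicF.IsInvertible L)
    (hd : Curv2.deg k X L 1 = 0) : Nonempty (L ≅ Coh.structureModule X) := by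
  obtain ⟨m, hm⟩ := NefMain.exists_section_ne_zero hL (gg_of_deg_nonneg k hdim h1 hL hd.ge).2
  have := isIso_of_deg_zero k hdim h1 hL hd (Pairing.secHom L m) (Pairing.secHom_ne_zero hm)
  exact ⟨(asIso (Pairing.secHom L m)).symm⟩

end Groth.Agent.Curves.K327.G0Deg
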