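import Groth.Agent.Curves.K327.G0Points
import Groth.Prelude.Def_PicGrp

/-!
# The Picard group of a curve of genus zero over an infinite field
-/

set_option autoImplicit false
universe u
open CategoryTheory CategoryTheory.Limits AlgebraicGeometry TopologicalSpace Opposite

namespace Groth.Agent.Curves.K327.G0Main

open Groth.Agent.CurvesB G0Deg G0Points Groth.Agent.Dix.PointIdeal

variable (k : Type u) [Field k] {X : Scheme.{u}} [X.Over (Spec (CommRingCat.of k))]
  [IsIntegral X] [IsProper (X ↘ (Spec (CommRingCat.of k)))]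

/-- Avoiding a finite set there is a regular closed point of least degree, equal to the least positive degree of
an invertible module. -/
theorem exists_least [Infinite k] (hdim : topologicalKrullDim X = 1)
    (h1 : Subsingleton (Coh.HH X (Coh.structureModule X) 1)) (T : Set X) (hT : T.Finite) :
    ∃ (Q : X) (hQ : IsClosed ({Q} : Set X)), Q ∉ T ∧ IsRegularLocalRing (X.presheaf.stalk Q) ∧
      ∀ M : X.Modules, PicF.IsInvertible M → 0 < Curv2.deg k X M 1 → (dg k Q hQ : ℤ) ≤ Curv2.deg k X M 1 := by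
  obtain ⟨L, hL, hLd, hLmin⟩ := exists_min k (X := X) hdim
  obtain ⟨Q, hQ, hQT, hreg, hle⟩ := exists_point k hdim h1 hL hLd T hT
  exact ⟨Q, hQ, hQT, hreg, fun M hM hMd => hle.trans (hLmin M hM hMd)⟩

theorem dg_le_dg (hdim : topologicalKrullDim X = 1) {d : ℤ}
    (hd : ∀ M : X.Modules, PicF.IsInvertible M → 0 < Curv2.deg k X M 1 → d ≤ Curv2.deg k X M 1)
    (P : X) (hP : IsClosed ({P} : Set X)) (hreg : IsRegularLocalRing (X.presheaf.stalk P)) :
    d ≤ dg k P hP := by
  obtain ⟨L, hL, -, -, hLd⟩ := exists_inverse_pt k hdim P hP hreg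
  rw [← hLd]
  refine hd L hL ?_
  rw [hLd]
  exact_mod_cast dg_pos k hdim P hP

/-- **Infinitely many regular points of least degree.** -/
theorem infinite [Infinite k] (hdim : topologicalKrullDim X = 1)
    (h1 : Subsingleton (Coh.HH X (Coh.structureModule X) 1)) :
    {P : X | ∃ hPc : IsClosed ({P} : Set X), IsRegularLocalRing (X.presheaf.stalk P) ∧
      ∀ (Q : X) (hQc : IsClosed ({Q} : Set X)), IsRegularLocalRing (X.presheaf.stalk Q) →
        dg k P hPc ≤ dg k Q hQc}.Infinite := by
  intro hfin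
  obtain ⟨Q, hQ, hQT, hreg, hmin⟩ := exists_least k hdim h1 _ hfin
  refine hQT ⟨hQ, hreg, fun P hP hPreg => ?_⟩
  exact_mod_cast dg_le_dg k hdim hmin P hP hPreg

section Pic

/-- the degree of a class. -/
noncomputable def degCl (c : PicLoc.PicSet X) : ℤ := Curv2.deg k X (PicGrp.exists_eq_cls c).choose 1

theorem degCl_cls {L : X.Modules} (hL : PicF.IsInvertible L) : degCl k (PicGrp.cls L hL) = Curv2.deg k X L 1 := by
  obtain ⟨hM, h⟩ := (PicGrp.exists_eq_cls (PicGrp.cls L hL)).choose_spec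
  obtain ⟨e⟩ := (PicGrp.cls_eq_cls_iff hL hM).1 h
  exact (SubEuler.deg_congr k e 1).symm

variable [PicGrp.Law X]

theorem degCl_mul (hdim : topologicalKrullDim X ≤ 1) (a b : PicLoc.PicSet X) :
    degCl k (a * b) = degCl k a + degCl k b := by
  obtain ⟨L, hL, rfl⟩ := PicGrp.exists_eq_cls a
  obtain ⟨M, hM, rfl⟩ := PicGrp.exists_eq_cls b
  have h : PicGrp.cls L hL * PicGrp.cls M hM =
      PicGrp.cls (CohB1.tensorMod L M) (Fdesc.LocGen.isInvertible_tensorMod hL hM) :=
    Subtype.ext (PicGrp.cls_mul_cls_val hL hM)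
  rw [h, degCl_cls, degCl_cls, degCl_cls, Old.H24.LinearSeries.deg_tensor k hdim hL hM]

/-- the degree homomorphism. -/
noncomputable def degHom (hdim : topologicalKrullDim X ≤ 1) : PicLoc.PicSet X →* Multiplicative ℤ :=
  MonoidHom.mk' (fun c => Multiplicative.ofAdd (degCl k c)) fun a b => by
    rw [degCl_mul k hdim a b]
    rfl

theorem degCl_mul_zpow (hdim : topologicalKrullDim X ≤ 1) (a g : PicLoc.PicSet X) (n : ℤ) :
    degCl k (a * g ^ n) = degCl k a + n * degCl k g := by
  have h := congrArg Multiplicative.toAdd (map_zpow (degHom k hdim) g n)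
  have h2 : degCl k (g ^ n) = n * degCl k g := by
    refine h.trans ?_
    change Multiplicative.toAdd (Multiplicative.ofAdd (degCl k g) ^ n) = _
    rw [toAdd_zpow, toAdd_ofAdd, smul_eq_mul]
  rw [degCl_mul k hdim, h2]

/-- **The Picard group is generated by a regular point of least degree.** -/
theorem pic [Infinite k] (hdim : topologicalKrullDim X = 1)
    (h1 : Subsingleton (Coh.HH X (Coh.structureModule X) 1))
    (P : X) (hP : IsClosed ({P} : Set X)) (hreg : IsRegularLocalRing (X.presheaf.stalk P))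
    (hmin : ∀ (Q : X) (hQc : IsClosed ({Q} : Set X)), IsRegularLocalRing (X.presheaf.stalk Q) →
      dg k P hP ≤ dg k Q hQc)
    (hI : PicF.IsInvertible (ClSub.idealMod (pt P hP))) (c : PicLoc.PicSet X) :
    c ∈ Subgroup.zpowers (PicGrp.cls (ClSub.idealMod (pt P hP)) hI) := by
  set g := PicGrp.cls (ClSub.idealMod (pt P hP)) hI with hg
  have hgd : degCl k g = - dg k P hP := by
    rw [hg, degCl_cls, deg_idealMod_pt k hdim P hP hreg]
  have hpos : (0 : ℤ) < dg k P hP := by exact_mod_cast dg_pos k hdim P hP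
  have hleast : ∀ M : X.Modules, PicF.IsInvertible M → 0 < Curv2.deg k X M 1 →
      (dg k P hP : ℤ) ≤ Curv2.deg k X M 1 := by
    intro M hM hMd
    obtain ⟨Q, hQ, -, hQreg, hQmin⟩ := exists_least k hdim h1 ∅ Set.finite_empty
    have h2 : (dg k P hP : ℤ) ≤ dg k Q hQ := by exact_mod_cast hmin Q hQ hQreg
    exact h2.trans (hQmin M hM hMd)
  let n : ℤ := degCl k c / dg k P hP
  have h2 : degCl k (c * g ^ n) = degCl k c % dg k P hP := by
    rw [degCl_mul_zpow k hdim.le, hgd, Int.emod_def]
    ring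
  have h3 : degCl k (c * g ^ n) = 0 := by
    obtain ⟨N, hN, hNc⟩ := PicGrp.exists_eq_cls (c * g ^ n)
    rw [hNc, degCl_cls] at h2
    rw [hNc, degCl_cls]
    have h4 := Int.emod_nonneg (degCl k c) hpos.ne'
    have h5 := Int.emod_lt_of_pos (degCl k c) hpos
    by_contra hne
    have h6 : 0 < Curv2.deg k X N 1 := by omega
    have h7 := hleast N hN h6
    omega
  have h4 : c * g ^ n = 1 := by
    obtain ⟨N, hN, hNc⟩ := PicGrp.exists_eq_cls (c * g ^ n)
    rw [hNc, degCl_cls] at h3
    rw [hNc, PicGrp.cls_eq_one_iff]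
    exact iso_of_deg_zero k hdim.le h1 hN h3
  rw [Subgroup.mem_zpowers_iff]
  refine ⟨-n, ?_⟩
  rw [zpow_neg]
  exact (eq_inv_of_mul_eq_one_left h4).symm

end Pic

end Groth.Agent.Curves.K327.G0Main
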