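import Groth.Agent.Ega2.H287.FinGenFree
import Groth.Agent.Dcoh.StalkT
import Groth.Agent.CurvesB.SubH1
import Groth.Agent.PerfB.TensUnit

/-!
# `H^1` of the tensor product with a globally generated module (dimension at most one)

On a Noetherian scheme of dimension at most one `H^1` is right exact, so `H^1(X, G) = 0` implies
`H^1(X, E ⊗ G) = 0` for every globally generated coherent `E`.
-/

set_option autoImplicit false
universe u
open CategoryTheory CategoryTheory.Limits AlgebraicGeometry

namespace Groth.Agent.Curves.K327.GGTensor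

open Groth.Agent.CohqB.HSeqMod

variable {X : Scheme.{u}}

/-- A decomposition of the identity of `S` as a sum of endomorphisms factoring through `N`. -/
def Dec {C : Type*} [Category C] [Preadditive C] (N S : C) : Prop :=
  ∃ (p : ℕ) (i : Fin p → (N ⟶ S)) (q : Fin p → (S ⟶ N)), ∑ j, q j ≫ i j = 𝟙 S

theorem Dec.sigma {C : Type*} [Category C] [Preadditive C] (p : ℕ) (N : C)
    [HasCoproduct fun _ : Fin p => N] : Dec N (∐ fun _ : Fin p => N) := by
  refine ⟨p, fun j => Sigma.ι (fun _ : Fin p => N) j, fun j => Sigma.desc fun i => if i = j then 𝟙 N else 0, ?_⟩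
  refine Sigma.hom_ext _ _ fun i => ?_
  rw [Preadditive.comp_sum, Category.comp_id]
  rw [Finset.sum_eq_single i]
  · simp
  · intro b _ hb
    rw [colimit.ι_desc_assoc]
    simp [hb.symm]
  · intro h
    exact absurd (Finset.mem_univ _) h

theorem Dec.map {C D : Type*} [Category C] [Preadditive C] [Category D] [Preadditive D] {N S : C}
    (s : Dec N S) (F : C ⥤ D) [F.Additive] : Dec (F.obj N) (F.obj S) := by
  obtain ⟨p, i, q, h⟩ := s
  refine ⟨p, fun j => F.map (i j), fun j => F.map (q j), ?_⟩
  simp only [← F.map_comp]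
  rw [← F.map_sum, h, F.map_id]

theorem Dec.congr {C : Type*} [Category C] [Preadditive C] {N N' S : C} (s : Dec N S) (e : N ≅ N') :
    Dec N' S := by
  obtain ⟨p, i, q, h⟩ := s
  refine ⟨p, fun j => e.inv ≫ i j, fun j => q j ≫ e.hom, ?_⟩
  rw [← h]
  refine Finset.sum_congr rfl fun j _ => ?_
  simp

/-- `H^n` of a retract-sum. -/
theorem subsingleton_of_dec {N S : X.Modules} (s : Dec N S) (n : ℕ) (h : Subsingleton (Coh.HH X N n)) :
    Subsingleton (Coh.HH X S n) := by
  obtain ⟨p, i, q, tot⟩ := s
  refine subsingleton_of_forall_eq 0 fun x => ?_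
  rw [← hmap_id_apply n x, ← tot, hmap_sum_apply]
  refine Finset.sum_eq_zero fun j _ => ?_
  rw [hmap_comp_apply, Subsingleton.elim (hmap (q j) n x) 0, map_zero]

theorem additive_flip (N : X.Modules) : (DCoh.tensorBi.flip.obj N).Additive where
  map_add {A B f g} := by
    change ((DCoh.tensorBi.map (f + g)).app N) = _
    rw [Functor.map_add]
    rfl

theorem epi_flip_map {E E' : X.Modules} (p : E ⟶ E') [Epi p] (G : X.Modules) :
    Epi ((DCoh.tensorBi.flip.obj G).map p) := inferInstance

/-- `O^p ⊗ G` is a sum of copies of `G`. -/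
theorem dec_free_tensor (p : ℕ) (G : X.Modules) : Dec G (CohB1.tensorMod (FlatMod.freeMod X p) G) := by
  have := additive_flip G
  exact ((Dec.sigma p (Coh.structureModule X)).map (DCoh.tensorBi.flip.obj G)).congr
    (Groth.Agent.Ega2.Tens.lunit G)

/-- Tensoring with a globally generated coherent module preserves the vanishing of `H^1` in dimension
at most one. -/
theorem subsingleton_H1_tensor [IsNoetherian X] (hdim : topologicalKrullDim X ≤ 1) {E G : X.Modules}
    (hE : Coh.IsCoh E) (hgg : Curv2.IsGloballyGenerated E) (h : Subsingleton (Coh.HH X G 1)) :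
    Subsingleton (Coh.HH X (CohB1.tensorMod E G) 1) := by
  obtain ⟨N, p, hp⟩ := Groth.Agent.Ega2.H287.FinGenFree.exists_epi_freeMod hE hgg
  have h1 := subsingleton_of_dec (dec_free_tensor N G) 1 h
  have h2 := epi_flip_map p G
  have h3 := CurvesB.SubH1.hmap_one_surjective_of_epi hdim ((DCoh.tensorBi.flip.obj G).map p)
  exact @Function.Surjective.subsingleton _ _ _ h1 h3

end Groth.Agent.Curves.K327.GGTensor
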