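import Groth.Agent.Models.H45.FieldConst
import Groth.Agent.S1533

/-!
# Integral curves of arithmetic genus one

`X` integral, proper over a field `k`, of dimension one, `dim_k H^1(X, O_X) = 1`.  The field of constants has
degree dividing `dim_k H^1(X, O_X) = 1`, so `H^0(X, O_X) = k`; hence every invertible module of degree at least
`2 = 2g` is globally generated.
-/

set_option autoImplicit false
universe u
open CategoryTheory CategoryTheory.Limits AlgebraicGeometry

namespace Groth.Agent.Curves.K327.GenusOneH0

/-- On an integral proper curve of arithmetic genus one the global functions are the base field. -/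
theorem finrank_h0_eq_one (k : Type u) [Field k] (X : Scheme.{u}) [X.Over (Spec (CommRingCat.of k))]
    [IsIntegral X] [IsProper (X ↘ (Spec (CommRingCat.of k)))] (hg : Curv2.genus k X = 1) :
    Module.finrank k (Coh.HH X (Coh.structureModule X) 0) = 1 := by
  have h := Groth.Agent.Models.H45.FieldConst.finrank_dvd_hh k X (Coh.structureModule X) 1
  change _ ∣ Curv2.genus k X at h
  rw [hg] at h
  exact Nat.dvd_one.mp h

/-- On an integral proper curve of arithmetic genus one every invertible module of degree at least two is
globally generated. -/
theorem isGloballyGenerated_of_two_le (k : Type u) [Field k] (X : Scheme.{u})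
    [X.Over (Spec (CommRingCat.of k))] [IsIntegral X] [IsProper (X ↘ (Spec (CommRingCat.of k)))]
    (hdim : topologicalKrullDim X = 1) (hg : Curv2.genus k X = 1)
    (L : X.Modules) (hL : PicF.IsInvertible L) (hdeg : 2 ≤ Curv2.deg k X L 1) :
    Curv2.IsGloballyGenerated L := by
  refine Groth.Agent.S1533.result k X hdim (finrank_h0_eq_one k X hg) L hL ?_
  rw [hg]
  simpa using hdeg

end Groth.Agent.Curves.K327.GenusOneH0
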