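import Groth.Agent.Curves.K327.NefMain
import Groth.Agent.Ega2.TensGen
import Groth.Agent.Ega2.AmpleGlobGen
import Groth.Agent.Smoothlim.ModKer
import Groth.Agent.PerfB.ModExact
import Groth.Agent.CurvesC.Gen
import Groth.Agent.CohqB.QCSheaf
import Groth.Agent.VarietyA.StalkCrit

/-!
# Castelnuovo–Mumford regularity in dimension one

`X` Noetherian of dimension at most one, `L` an ample invertible module generated by two sections, `F` coherent
with `H^1(X, F) = 0`; then `F ⊗ L` is globally generated.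
-/

set_option autoImplicit false
universe u
open CategoryTheory CategoryTheory.Limits AlgebraicGeometry TopologicalSpace Opposite

namespace Groth.Agent.Curves.K327.Koszul

open Groth.Agent.CohqB.HSeqMod Groth.Agent.CurvesB.SubH1 Groth.Agent.CurvesC.Gen NefStep
open Groth.Agent.Ega2

variable {X : Scheme.{u}} {L : X.Modules}

/-- multiplication by a section of `L`. -/
noncomputable def ms (s : Coh.structureModule X ⟶ L) (F : X.Modules) : F ⟶ CohB1.tensorMod F L :=
  (Tens.runit F).inv ≫ Tens.mapT (𝟙 F) s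

theorem ms_app (s : Coh.structureModule X ⟶ L) (F : X.Modules) (U : X.Opens) (f : Γ(F, U)) :
    (ms s F).app U f = Tens.tmul f (sec s U) := by
  have h1 : (Tens.runit F).inv.app U f = Tens.tmul f (Tens.sm 1) := Tens.runit_inv_app f
  change (Tens.mapT (𝟙 F) s).app U ((Tens.runit F).inv.app U f) = _
  rw [h1, Tens.mapT_tmul]
  rfl

/-- tensoring a morphism with `L`. -/
noncomputable def tL (L : X.Modules) {F F' : X.Modules} (φ : F ⟶ F') :
    CohB1.tensorMod F L ⟶ CohB1.tensorMod F' L := Tens.mapT φ (𝟙 L)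

theorem ms_naturality (s : Coh.structureModule X ⟶ L) {F F' : X.Modules} (φ : F ⟶ F') (U : X.Opens)
    (f : Γ(F, U)) : (tL L φ).app U ((ms s F).app U f) = (ms s F').app U (φ.app U f) := by
  rw [ms_app, ms_app]
  exact Tens.mapT_tmul _ _ _ _

variable (s t : Coh.structureModule X ⟶ L) (F : X.Modules)

/-- `(g₁, g₂) ↦ g₁ s + g₂ t`. -/
noncomputable def kp : CohB1.tensorMod F L ⊞ CohB1.tensorMod F L ⟶ CohB1.tensorMod (CohB1.tensorMod F L) L :=
  biprod.desc (ms s _) (ms t _)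

/-- `f ↦ (f t, - f s)`. -/
noncomputable def kk : F ⟶ CohB1.tensorMod F L ⊞ CohB1.tensorMod F L :=
  biprod.lift (ms t F) (-(ms s F))

theorem kp_app {G : X.Modules} (p q : G ⟶ CohB1.tensorMod G L) (U : X.Opens) (v : Γ((G ⊞ G : X.Modules), U)) :
    (biprod.desc p q).app U v = p.app U ((biprod.fst : G ⊞ G ⟶ G).app U v) +
      q.app U ((biprod.snd : G ⊞ G ⟶ G).app U v) := by
  have h : biprod.desc p q = biprod.fst ≫ p + biprod.snd ≫ q := by
    apply biprod.hom_ext' <;> simp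
  rw [h]
  rfl

theorem biprod_ext {G : X.Modules} (U : X.Opens) (v w : Γ((G ⊞ G : X.Modules), U))
    (h1 : (biprod.fst : G ⊞ G ⟶ G).app U v = (biprod.fst : G ⊞ G ⟶ G).app U w)
    (h2 : (biprod.snd : G ⊞ G ⟶ G).app U v = (biprod.snd : G ⊞ G ⟶ G).app U w) : v = w := by
  have h : ∀ v : Γ((G ⊞ G : X.Modules), U), v = (biprod.inl : G ⟶ G ⊞ G).app U ((biprod.fst : G ⊞ G ⟶ G).app U v) +
      (biprod.inr : G ⟶ G ⊞ G).app U ((biprod.snd : G ⊞ G ⟶ G).app U v) := by
    intro v
    have h3 : (biprod.fst : G ⊞ G ⟶ G) ≫ biprod.inl + biprod.snd ≫ biprod.inr = 𝟙 _ := biprod.total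
    exact (congr(($h3).app U v)).symm
  rw [h v, h w, h1, h2]

theorem tmul_swap_section (s t : Coh.structureModule X ⟶ L) (hcov : ∀ x : X, x ∈ CohB1.genLocus L s ∨
    x ∈ CohB1.genLocus L t) (U : X.Opens) (f : Γ(F, U)) :
    Tens.tmul (Tens.tmul f (sec t U)) (sec s U) = Tens.tmul (Tens.tmul f (sec s U)) (sec t U) := by
  refine Tens.eq_of_locally_eq _ _ _ fun x hx => ?_
  rcases hcov x with h | h
  · refine ⟨U ⊓ CohB1.genLocus L s, homOfLE inf_le_left, ⟨hx, h⟩, ?_⟩
    have hg : IsGen L (U ⊓ CohB1.genLocus L s) (sec s _) := (le_genLocus_iff s _).mp inf_le_right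
    obtain ⟨b, hb⟩ := hg.exists_eq (sec t _)
    rw [Tens.tmul_res, Tens.tmul_res, Tens.tmul_res, Tens.tmul_res, map_sec, map_sec, ← hb, Tens.tmul_smul,
      Tens.smul_tmul, Tens.tmul_smul]
  · refine ⟨U ⊓ CohB1.genLocus L t, homOfLE inf_le_left, ⟨hx, h⟩, ?_⟩
    have hg : IsGen L (U ⊓ CohB1.genLocus L t) (sec t _) := (le_genLocus_iff t _).mp inf_le_right
    obtain ⟨b, hb⟩ := hg.exists_eq (sec s _)
    rw [Tens.tmul_res, Tens.tmul_res, Tens.tmul_res, Tens.tmul_res, map_sec, map_sec, ← hb, Tens.tmul_smul,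
      Tens.tmul_smul, Tens.smul_tmul]

variable (hcov : ∀ x : X, x ∈ CohB1.genLocus L s ∨ x ∈ CohB1.genLocus L t)

include hcov

theorem kk_kp : kk s t F ≫ kp s t F = 0 := by
  have h : kk s t F ≫ kp s t F = ms t F ≫ ms s _ + (-(ms s F)) ≫ ms t _ := by
    unfold kk kp
    rw [biprod.lift_desc]
  rw [h, Preadditive.neg_comp, add_neg_eq_zero]
  ext U f
  change (ms s _).app U ((ms t F).app U f) = (ms t _).app U ((ms s F).app U f)
  rw [ms_app, ms_app, ms_app, ms_app]
  exact tmul_swap_section F s t hcov U f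

theorem epi_kp : Epi (kp s t F) := by
  refine PerfB.ModExact.epi_of_locally_surjective _ fun U y x hx => ?_
  rcases hcov x with h | h
  · have hg : IsGen L (U ⊓ CohB1.genLocus L s) (sec s _) := (le_genLocus_iff s _).mp inf_le_right
    obtain ⟨g, hgy⟩ := TensGen.exists_eq_tmul (F := CohB1.tensorMod F L) (show Fdesc.LocGen.IsGen (sec s _) from hg)
      ((CohB1.tensorMod (CohB1.tensorMod F L) L).presheaf.map (homOfLE (inf_le_left : U ⊓ CohB1.genLocus L s ≤ U)).op y)
    refine ⟨U ⊓ CohB1.genLocus L s, inf_le_left, ⟨hx, h⟩, (biprod.inl : _ ⟶ CohB1.tensorMod F L ⊞ CohB1.tensorMod F L).app _ g, ?_⟩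
    rw [hgy]
    have h2 : (biprod.inl : _ ⟶ CohB1.tensorMod F L ⊞ CohB1.tensorMod F L) ≫ kp s t F = ms s _ := biprod.inl_desc _ _
    refine (congr(($h2).app _ g)).trans ?_
    exact ms_app s _ _ g
  · have hg : IsGen L (U ⊓ CohB1.genLocus L t) (sec t _) := (le_genLocus_iff t _).mp inf_le_right
    obtain ⟨g, hgy⟩ := TensGen.exists_eq_tmul (F := CohB1.tensorMod F L) (show Fdesc.LocGen.IsGen (sec t _) from hg)
      ((CohB1.tensorMod (CohB1.tensorMod F L) L).presheaf.map (homOfLE (inf_le_left : U ⊓ CohB1.genLocus L t ≤ U)).op y)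
    refine ⟨U ⊓ CohB1.genLocus L t, inf_le_left, ⟨hx, h⟩, (biprod.inr : _ ⟶ CohB1.tensorMod F L ⊞ CohB1.tensorMod F L).app _ g, ?_⟩
    rw [hgy]
    have h2 : (biprod.inr : _ ⟶ CohB1.tensorMod F L ⊞ CohB1.tensorMod F L) ≫ kp s t F = ms t _ := biprod.inr_desc _ _
    refine (congr(($h2).app _ g)).trans ?_
    exact ms_app t _ _ g

theorem exists_kk {U : X.Opens} (v : Γ((CohB1.tensorMod F L ⊞ CohB1.tensorMod F L : X.Modules), U))
    (hv : (kp s t F).app U v = 0) (x : X) (hx : x ∈ U) :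
    ∃ (V : X.Opens) (i : V ≤ U) (_ : x ∈ V) (f : Γ(F, V)), (kk s t F).app V f =
      (CohB1.tensorMod F L ⊞ CohB1.tensorMod F L : X.Modules).presheaf.map (homOfLE i).op v := by
  have hkv : ∀ (V : X.Opens) (i : V ≤ U), (kp s t F).app V
      ((CohB1.tensorMod F L ⊞ CohB1.tensorMod F L : X.Modules).presheaf.map (homOfLE i).op v) = 0 := by
    intro V i
    rw [← Tens.app_res, hv, map_zero]
  have hk1 : ∀ (V : X.Opens) (f : Γ(F, V)), (biprod.fst : _ ⊞ _ ⟶ CohB1.tensorMod F L).app V ((kk s t F).app V f) =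
      Tens.tmul f (sec t V) := by
    intro V f
    have h : kk s t F ≫ biprod.fst = ms t F := biprod.lift_fst _ _
    exact (congr(($h).app V f)).trans (ms_app t F V f)
  have hk2 : ∀ (V : X.Opens) (f : Γ(F, V)), (biprod.snd : _ ⊞ _ ⟶ CohB1.tensorMod F L).app V ((kk s t F).app V f) =
      - Tens.tmul f (sec s V) := by
    intro V f
    have h : kk s t F ≫ biprod.snd = -(ms s F) := biprod.lift_snd _ _
    refine (congr(($h).app V f)).trans ?_
    exact congrArg Neg.neg (ms_app s F V f)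
  rcases hcov x with h | h
  · have hle : U ⊓ CohB1.genLocus L s ≤ U := inf_le_left
    have hg : IsGen L (U ⊓ CohB1.genLocus L s) (sec s _) := (le_genLocus_iff s _).mp inf_le_right
    obtain ⟨b, hb⟩ := hg.exists_eq (sec t _)
    set w := (CohB1.tensorMod F L ⊞ CohB1.tensorMod F L : X.Modules).presheaf.map (homOfLE hle).op v with hw
    have hw0 := hkv _ hle
    rw [← hw] at hw0
    obtain ⟨f2, hf2⟩ := TensGen.exists_eq_tmul (F := F) (show Fdesc.LocGen.IsGen (sec s _) from hg)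
      ((biprod.snd : _ ⊞ _ ⟶ CohB1.tensorMod F L).app _ w)
    refine ⟨U ⊓ CohB1.genLocus L s, hle, ⟨hx, h⟩, -f2, ?_⟩
    have h3 : (biprod.fst : _ ⊞ _ ⟶ CohB1.tensorMod F L).app _ w + b • (biprod.snd : _ ⊞ _ ⟶ CohB1.tensorMod F L).app _ w = 0 := by
      apply TensGen.tmul_gen_eq_zero (show Fdesc.LocGen.IsGen (sec s _) from hg)
      rw [← hw0]
      refine Eq.trans ?_ (kp_app (ms s _) (ms t _) _ w).symm
      rw [ms_app, ms_app, ← hb]
      refine (Tens.add_tmul _ _ _).trans ?_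
      rw [Tens.smul_tmul, Tens.tmul_smul]
    apply biprod_ext
    · rw [hk1, ← hb, Tens.tmul_smul, eq_neg_of_add_eq_zero_left h3, hf2]
      have : Tens.tmul (-f2) (sec s (U ⊓ CohB1.genLocus L s)) = - Tens.tmul f2 (sec s (U ⊓ CohB1.genLocus L s)) :=
        map_neg ((Tens.tmulHom F L _).flip _) f2
      rw [this, smul_neg]
      rfl
    · rw [hk2, hf2]
      have : Tens.tmul (-f2) (sec s (U ⊓ CohB1.genLocus L s)) = - Tens.tmul f2 (sec s (U ⊓ CohB1.genLocus L s)) :=
        map_neg ((Tens.tmulHom F L _).flip _) f2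
      rw [this, neg_neg]
      rfl
  · have hle : U ⊓ CohB1.genLocus L t ≤ U := inf_le_left
    have hg : IsGen L (U ⊓ CohB1.genLocus L t) (sec t _) := (le_genLocus_iff t _).mp inf_le_right
    obtain ⟨a, ha⟩ := hg.exists_eq (sec s _)
    set w := (CohB1.tensorMod F L ⊞ CohB1.tensorMod F L : X.Modules).presheaf.map (homOfLE hle).op v with hw
    have hw0 := hkv _ hle
    rw [← hw] at hw0
    obtain ⟨f1, hf1⟩ := TensGen.exists_eq_tmul (F := F) (show Fdesc.LocGen.IsGen (sec t _) from hg)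
      ((biprod.fst : _ ⊞ _ ⟶ CohB1.tensorMod F L).app _ w)
    refine ⟨U ⊓ CohB1.genLocus L t, hle, ⟨hx, h⟩, f1, ?_⟩
    have h3 : a • (biprod.fst : _ ⊞ _ ⟶ CohB1.tensorMod F L).app _ w + (biprod.snd : _ ⊞ _ ⟶ CohB1.tensorMod F L).app _ w = 0 := by
      apply TensGen.tmul_gen_eq_zero (show Fdesc.LocGen.IsGen (sec t _) from hg)
      rw [← hw0]
      refine Eq.trans ?_ (kp_app (ms s _) (ms t _) _ w).symm
      rw [ms_app, ms_app, ← ha]
      refine (Tens.add_tmul _ _ _).trans ?_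
      rw [Tens.smul_tmul, Tens.tmul_smul]
    apply biprod_ext
    · rw [hk1, hf1]
      rfl
    · rw [hk2, ← ha, Tens.tmul_smul, eq_neg_of_add_eq_zero_right h3, hf1]
      rfl

/-- Sections of `F ⊗ L ⊗ L` are `g₁ s + g₂ t` if `H^1(F) = 0`. -/
theorem kp_surjective [IsNoetherian X] (hdim : topologicalKrullDim X ≤ 1)
    (h1 : Subsingleton (Coh.HH X F 1)) : Function.Surjective ((kp s t F).app ⊤) := by
  have hep := epi_kp s t F hcov
  have hkk : Epi (kernel.lift (kp s t F) (kk s t F) (kk_kp s t F hcov)) := by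
    refine PerfB.ModExact.epi_of_locally_surjective _ fun U y x hx => ?_
    have h0 : (kp s t F).app U ((kernel.ι (kp s t F)).app U y) = 0 := by
      have := kernel.condition (kp s t F)
      exact congr(($this).app U y)
    obtain ⟨V, i, hxV, f, hf⟩ := exists_kk s t F hcov _ h0 x hx
    refine ⟨V, i, hxV, f, ?_⟩
    apply Smoothlim.ModKer.app_injective_of_mono (kernel.ι (kp s t F)) V
    have h2 : kernel.lift (kp s t F) (kk s t F) (kk_kp s t F hcov) ≫ kernel.ι _ = kk s t F := kernel.lift_ι _ _ _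
    refine (congr(($h2).app V f)).trans (hf.trans ?_)
    rw [Tens.app_res]
  have h2 := hmap_one_surjective_of_epi hdim (kernel.lift (kp s t F) (kk s t F) (kk_kp s t F hcov))
  have h3 : Subsingleton (Coh.HH X (kernel (kp s t F)) 1) := @Function.Surjective.subsingleton _ _ _ h1 h2
  exact app_surjective_of_H1 (VarietyA.StalkCrit.shortExact_kernel (kp s t F)) h3

omit hcov in
theorem isZero_of_forall {Q : X.Modules} (h : ∀ x : X, ∃ U : X.Opens, x ∈ U ∧ ∀ V : X.Opens, V ≤ U →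
    ∀ q : Γ(Q, V), q = 0) : IsZero Q := by
  rw [IsZero.iff_id_eq_zero]
  ext U q
  refine Tens.eq_of_locally_eq _ _ _ fun x hx => ?_
  obtain ⟨W, hxW, hW⟩ := h x
  refine ⟨U ⊓ W, homOfLE inf_le_left, ⟨hx, hxW⟩, ?_⟩
  rw [hW (U ⊓ W) inf_le_right (Q.presheaf.map _ _)]
  exact (hW (U ⊓ W) inf_le_right _).symm

omit hcov in
theorem isZero_of_tL (hL : PicF.IsInvertible L) {Q : X.Modules} (h : IsZero (CohB1.tensorMod Q L)) : IsZero Q := by
  refine isZero_of_forall fun x => ?_
  obtain ⟨U, e, hxU, -, -, he⟩ := TensGen.exists_affine_gen hL x (V := ⊤) trivial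
  refine ⟨U, hxU, fun V hV q => ?_⟩
  apply TensGen.tmul_gen_eq_zero (he.res hV)
  have h0 : 𝟙 (CohB1.tensorMod Q L) = 0 := (IsZero.iff_id_eq_zero _).mp h
  exact congr(($h0).app V (Fdesc.LocGen.tmul q (Fdesc.LocGen.res L hV e)))

/-- **Descent of global generation.** -/
theorem descend [IsNoetherian X] (hdim : topologicalKrullDim X ≤ 1) (hL : PicF.IsInvertible L)
    (h1 : Subsingleton (Coh.HH X F 1))
    (hgg : Curv2.IsGloballyGenerated (CohB1.tensorMod (CohB1.tensorMod F L) L)) :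
    Curv2.IsGloballyGenerated (CohB1.tensorMod F L) := by
  set G := CohB1.tensorMod F L with hG
  let ev : VarietyB.GGStalk.fr X Γ(G, ⊤) ⟶ G := VarietyB.GGStalk.ofSec id
  refine ⟨Γ(G, ⊤), ev, ?_⟩
  let π : G ⟶ cokernel ev := cokernel.π ev
  have hπ : ∀ g : Γ(G, ⊤), π.app ⊤ g = 0 := by
    intro g
    have h2 : ev.app ⊤ (VarietyB.GGStalk.frSec g) = g := VarietyB.GGStalk.ofSec_frSec id g
    have h3 : ev ≫ π = 0 := cokernel.condition ev
    rw [← h2]
    exact congr(($h3).app ⊤ (VarietyB.GGStalk.frSec g))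
  have hσ : ∀ σ : Γ(CohB1.tensorMod G L, ⊤), (tL L π).app ⊤ σ = 0 := by
    intro σ
    obtain ⟨v, rfl⟩ := kp_surjective s t F hcov hdim h1 σ
    have h4 := kp_app (ms s G) (ms t G) ⊤ v
    change (tL L π).app ⊤ ((biprod.desc (ms s G) (ms t G)).app ⊤ v) = 0
    rw [h4, map_add, ms_naturality, ms_naturality, hπ, hπ, map_zero, map_zero, add_zero]
  have hep : Epi (tL L π) := by
    have : Epi π := inferInstanceAs (Epi (cokernel.π ev))
    refine PerfB.ModExact.epi_of_locally_surjective _ fun U y x hx => ?_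
    obtain ⟨W, e, hxW, hWU, -, he⟩ := TensGen.exists_affine_gen hL x hx
    obtain ⟨q, hq⟩ := TensGen.exists_eq_tmul (F := cokernel ev) he
      ((CohB1.tensorMod (cokernel ev) L).presheaf.map (homOfLE hWU).op y)
    obtain ⟨V, hVW, g, hxV, hg⟩ := CohqB.QCSheaf.exists_local_lift π q x hxW
    refine ⟨V, hVW.trans hWU, hxV, Tens.tmul g (L.presheaf.map (homOfLE hVW).op e), ?_⟩
    refine (Tens.mapT_tmul _ _ _ _).trans ?_
    rw [hg, ← map_map_section _ hVW hWU, hq]
    exact (Tens.tmul_res _ _ _).symm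
  obtain ⟨I, p, hp⟩ := hgg
  have h5 : p ≫ tL L π = 0 := VarietyB.GGStalk.free_hom_ext fun i => hσ _
  have h6 : tL L π = 0 := by
    have h6' : (p : VarietyB.GGStalk.fr X I ⟶ CohB1.tensorMod G L) ≫ tL L π =
        (p : VarietyB.GGStalk.fr X I ⟶ CohB1.tensorMod G L) ≫ 0 := h5.trans comp_zero.symm
    exact (@cancel_epi X.Modules _ _ _ _ p hp _ _).mp h6'
  have h7 : IsZero (CohB1.tensorMod (cokernel ev) L) := by
    rw [IsZero.iff_id_eq_zero, ← cancel_epi (tL L π), h6, zero_comp, zero_comp]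
  exact Preadditive.epi_of_isZero_cokernel ev (isZero_of_tL hL h7)

omit hcov in
theorem isGloballyGenerated_congr {M N : X.Modules} (e : M ≅ N) (h : Curv2.IsGloballyGenerated M) :
    Curv2.IsGloballyGenerated N := Ega2.GlobGenCrit.isGloballyGenerated_of_iso e h

omit hcov in
theorem subsingleton_congr {M N : X.Modules} (e : M ≅ N) (h : Subsingleton (Coh.HH X M 1)) :
    Subsingleton (Coh.HH X N 1) := by
  refine subsingleton_of_forall_eq 0 fun x => ?_
  have h2 : hmap e.hom 1 (hmap e.inv 1 x) = x := by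
    rw [← hmap_comp_apply, e.inv_hom_id, hmap_id_apply]
  rw [← h2, Subsingleton.elim (hmap e.inv 1 x) 0, map_zero]

omit hcov in
theorem isCoh_of_inv (hL : PicF.IsInvertible L) : Coh.IsCoh L := CurvesB.SubPoint.isCoh_of_isInvertible hL

omit hcov in
/-- `H^1(F ⊗ L) = 0`. -/
theorem subsingleton_H1_tensor_right [IsNoetherian X] (hdim : topologicalKrullDim X ≤ 1)
    (hL : PicF.IsInvertible L) (hgg : Curv2.IsGloballyGenerated L)
    (h1 : Subsingleton (Coh.HH X F 1)) : Subsingleton (Coh.HH X (CohB1.tensorMod F L) 1) :=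
  subsingleton_congr (Tens.swap L F) (GGTensor.subsingleton_H1_tensor hdim (isCoh_of_inv hL) hgg h1)

/-- **Castelnuovo–Mumford regularity in dimension one.** -/
theorem cm [IsNoetherian X] (hdim : topologicalKrullDim X ≤ 1) (hA : CohB1.IsAmple L)
    (hgg : Curv2.IsGloballyGenerated L) (hF : Coh.IsCoh F) (h1 : Subsingleton (Coh.HH X F 1)) :
    Curv2.IsGloballyGenerated (CohB1.tensorMod F L) := by
  have hL := hA.1
  let G : ℕ → X.Modules := fun n => CohB1.tensorMod F (CohB1.tensorPow L n)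
  let e : ∀ n, CohB1.tensorMod (G n) L ≅ G (n + 1) := fun n => Tens.assoc F (CohB1.tensorPow L n) L
  have h2 : ∀ n, Subsingleton (Coh.HH X (G n) 1) := by
    intro n
    induction n with
    | zero => exact subsingleton_congr (Tens.runit F).symm h1
    | succ n ih => exact subsingleton_congr (e n) (subsingleton_H1_tensor_right (G n) hdim hL hgg ih)
  obtain ⟨n₀, hn₀⟩ := AmpleGlobGen.exists_globGen hA hF
  have h3 : ∀ m n : ℕ, n₀ ≤ m + n → Curv2.IsGloballyGenerated (G (n + 1)) := by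
    intro m
    induction m with
    | zero => exact fun n hn => hn₀ (n + 1) (by omega)
    | succ m ih =>
      intro n hn
      have h4 := ih (n + 1) (by omega)
      refine isGloballyGenerated_congr (e n) (descend s t (G n) hcov hdim hL (h2 n) ?_)
      refine isGloballyGenerated_congr (M := G (n + 1 + 1)) ?_ h4
      exact (e (n + 1)).symm ≪≫ (Tens.mapTIso (e n) (Iso.refl L)).symm
  exact isGloballyGenerated_congr ((Tens.mapTIso (Iso.refl F) (Tens.lunit L))) (h3 n₀ 0 (by omega))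

end Groth.Agent.Curves.K327.Koszul
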