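import Groth.Agent.Curves.K327.NefStep
import Groth.Agent.CurvesC.CompGeom
import Groth.Agent.CurvesC.CurveCoh
import Groth.Agent.CurvesB.SubEuler
import Groth.Agent.VarietyA.CurveFin
import Groth.Agent.VarietyB.DegCartier
import Groth.Agent.S0458
import Groth.Agent.CycB.ModStalk
import Groth.Agent.Fga.PosZero
import Groth.Agent.VarietyA.GlobGen
import Groth.Agent.S1533

/-!
# Nef invertible modules on curves with `H^1(O) = 0` over an algebraically closed field
-/

set_option autoImplicit false
universe u
open CategoryTheory CategoryTheory.Limits AlgebraicGeometry TopologicalSpace Opposite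

namespace Groth.Agent.Curves.K327.NefInd

open Groth.Agent.CohqB.HSeqMod Groth.Agent.CurvesB.SubH1 Groth.Agent.CurvesB
open Groth.Agent.CurvesB.SubPoint Groth.Agent.CycB.StalkExact NefStep

variable {k : Type u} [Field k] {W : Scheme.{u}} [W.Over (Spec (CommRingCat.of k))]

/-- The closure of a point, with its reduced structure. -/
noncomputable abbrev cl (W : Scheme.{u}) (ξ : W) : W.IdealSheafData :=
  Scheme.IdealSheafData.vanishingIdeal ⟨closure {ξ}, isClosed_closure⟩

theorem range_cl (ξ : W) : Set.range (cl W ξ).subschemeι = closure {ξ} := by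
  rw [Scheme.IdealSheafData.range_subschemeι]
  simp

instance isIntegral_cl (ξ : W) : IsIntegral (cl W ξ).subscheme := by
  have h1 : IrreducibleSpace (cl W ξ).subscheme := by
    refine CurvesC.CompGeom.irreducibleSpace_of_embedding _ (cl W ξ).subschemeι.isEmbedding ?_
    rw [range_cl]
    exact isIrreducible_singleton.closure
  have h2 : IsReduced (cl W ξ).subscheme := Ega1.ReducedSub.isReduced_subscheme_vanishingIdeal _
  exact isIntegral_of_irreducibleSpace_of_isReduced _

/-- All sections vanish at no point, if globally generated. -/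
theorem not_vanAt {L : W.Modules} (hL : PicF.IsInvertible L) (hg : Curv2.IsGloballyGenerated L) (w : W) :
    ¬ VanAt L w := by
  intro h
  have h1 := (VarietyB.GGStalk.isGloballyGenerated_iff_span L).mp hg w
  have h2 : (⊤ : Submodule (W.presheaf.stalk w) (L.presheaf.stalk w)) ≤
      IsLocalRing.maximalIdeal (W.presheaf.stalk w) • ⊤ := by
    rw [← h1, Submodule.span_le]
    rintro _ ⟨s, rfl⟩
    rw [h1]
    exact h s
  obtain ⟨t, ht⟩ := CycB.ModStalk.exists_isGen hL w
  have hfin : (⊤ : Submodule (W.presheaf.stalk w) (L.presheaf.stalk w)).FG := by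
    refine ⟨{t}, ?_⟩
    rw [eq_top_iff]
    rintro m -
    obtain ⟨a, rfl⟩ := ht.2 m
    exact Submodule.smul_mem _ a (Submodule.subset_span (by simp))
  have h3 := Submodule.eq_bot_of_le_smul_of_le_jacobson_bot _ _ hfin h2 (IsLocalRing.maximalIdeal_le_jacobson _)
  have h4 : t = 0 := by
    have : t ∈ (⊤ : Submodule (W.presheaf.stalk w) (L.presheaf.stalk w)) := trivial
    rw [h3] at this
    exact (Submodule.mem_bot _).mp this
  have h5 : (1 : W.presheaf.stalk w) = 0 := ht.1 (by simp [h4])
  exact one_ne_zero h5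

/-- **The induction step.** -/
theorem step [IsAlgClosed k] [IsProper (W ↘ (Spec (CommRingCat.of k)))] (hdim : topologicalKrullDim W ≤ 1)
    (h1 : Subsingleton (Coh.HH W (Coh.structureModule W) 1)) {L : W.Modules} (hL : PicF.IsInvertible L)
    (IH : ∀ J : W.IdealSheafData, J ≠ ⊥ → Curv2.IsGloballyGenerated ((Scheme.Modules.pullback J.subschemeι).obj L))
    (hbase : ∀ J : W.IdealSheafData, IsIntegral J.subscheme →
      Subsingleton (Coh.HH J.subscheme ((Scheme.Modules.pullback J.subschemeι).obj L) 1) ∧
        Curv2.IsGloballyGenerated ((Scheme.Modules.pullback J.subschemeι).obj L)) :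
    Subsingleton (Coh.HH W L 1) ∧ Curv2.IsGloballyGenerated L := by
  have hN := CurvesC.CurveCoh.noetherianSpace k W
  have hB : VarietyB.TensCoh.HasBases L := hasBases_of_isInvertible hL
  -- the basic vanishing
  have key : ∀ ξ : W, IsGen ξ → Subsingleton (Coh.HH W (CohB1.tensorMod L (ClSub.idealMod (cl W ξ))) 1) := by
    intro ξ hξ
    have h2 : Subsingleton (Coh.HH W (ClSub.idealMod (cl W ξ)) 1) :=
      subsingleton_H1_left (VarietyB.RestrSeq.idealSeq_shortExact (cl W ξ))
        (app_top_surjective (W ↘ (Spec (CommRingCat.of k))) (cl W ξ)) h1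
    exact subsingleton_H1_tensor_killed (k := k) hdim hL (VarietyB.DegCartier.isCoh_idealMod _)
      (AnnComp.ann (cl W ξ)) (AnnComp.killed _) (IH _ (AnnComp.ann_ne_bot hξ)) h2
  constructor
  · by_cases hne : Nonempty W
    · obtain ⟨ξ, hξ, -⟩ := CurvesB.SubClosed.exists_isGen_specializes (Classical.arbitrary W)
      refine subsingleton_H1_mid (VarietyB.RestrSeq.restrSeq_shortExact hB (cl W ξ)) (key ξ hξ) ?_
      let : (cl W ξ).subscheme.Over (Spec (CommRingCat.of k)) :=
        ⟨(cl W ξ).subschemeι ≫ (W ↘ (Spec (CommRingCat.of k)))⟩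
      obtain ⟨e⟩ := VarietyB.HHPush.exists_linearEquiv (cl W ξ).subschemeι k rfl
        ((Scheme.Modules.pullback (cl W ξ).subschemeι).obj L)
        (FormalA.PullbackQC.isQCoh_pullback _ L (isCoh_of_isInvertible hL).1) 1
      have := (hbase (cl W ξ) inferInstance).1
      exact e.toEquiv.subsingleton
    · rw [not_nonempty_iff] at hne
      have h0 : topologicalKrullDim W ≤ 0 := by
        have : topologicalKrullDim W = ⊥ := by
          have hE2 : IsEmpty (IrreducibleCloseds W) :=
            ⟨fun Z => by obtain ⟨x, -⟩ := Z.isIrreducible.1; exact hne.false x⟩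
          exact Order.krullDim_eq_bot
        rw [this]
        exact bot_le
      exact Groth.Agent.S0458.result 0 h0 (Coh.toAb L) 1 (by norm_num)
  · by_contra hcon
    obtain ⟨w, hw, hv⟩ := exists_vanAt L hL hcon
    obtain ⟨ξ, hξ, hξw⟩ := CurvesB.SubClosed.exists_isGen_specializes w
    have hs := app_surjective_of_H1 (VarietyB.RestrSeq.restrSeq_shortExact hB (cl W ξ)) (key ξ hξ)
    have hv2 := hv.of_surjective (VarietyB.RestrSeq.toRestr hB (cl W ξ)) w hs
    obtain ⟨c, hc⟩ : w ∈ Set.range (cl W ξ).subschemeι := by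
      rw [range_cl]
      exact specializes_iff_mem_closure.mp hξw
    subst hc
    have hv3 := vanAt_of_push (cl W ξ).subschemeι _ c hv2
    exact not_vanAt (CycB.C1Pull.isInvertible_pullback _ hL) (hbase (cl W ξ) inferInstance).2 c hv3

end Groth.Agent.Curves.K327.NefInd
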