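import Groth.Agent.Curves.K327.GGTensor
import Groth.Agent.Curves.K327.AnnComp
import Groth.Agent.VarietyB.RestrSeq
import Groth.Agent.VarietyB.HHPush
import Groth.Agent.VarietyB.GGStalk
import Groth.Agent.FormalA.ClosedImm
import Groth.Agent.PerfA.H0AlgClosed
import Groth.Agent.CurvesB.SubPoint
import Groth.Agent.CurvesB.SubEuler
import Groth.Agent.CurvesB.HZero
import Groth.Agent.Fdesc.StructMod
import Groth.Agent.Ega2.GlobGenCrit
import Groth.Agent.CycB.C1Pull

/-!
# Induction step for nef invertible modules on curves with `H^1(O) = 0` over an algebraically closed field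
-/

set_option autoImplicit false
universe u
open CategoryTheory CategoryTheory.Limits AlgebraicGeometry TopologicalSpace Opposite

namespace Groth.Agent.Curves.K327.NefStep

open Groth.Agent.CohqB.HSeqMod Groth.Agent.CurvesB.SubH1 Groth.Agent.CurvesB
open Groth.Agent.CurvesB.SubPoint Groth.Agent.CycB.StalkExact

variable {W : Scheme.{u}}

/-- Surjectivity on sections gives surjectivity on `H^0`. -/
theorem hmap_zero_surjective {M N : W.Modules} (φ : M ⟶ N) (hs : Function.Surjective (φ.app ⊤)) :
    Function.Surjective (hmap φ 0) := by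
  intro y
  obtain ⟨t, ht⟩ := hs (HZero.equivAdd _ y)
  refine ⟨(HZero.equivAdd _).symm t, ?_⟩
  apply (HZero.equivAdd _).injective
  refine (HZero.equivAdd_map φ _).trans ?_
  rw [AddEquiv.apply_symm_apply]
  exact ht

/-- Surjectivity on `H^0` gives surjectivity on sections. -/
theorem app_surjective {M N : W.Modules} (φ : M ⟶ N) (hs : Function.Surjective (hmap φ 0)) :
    Function.Surjective (φ.app ⊤) := by
  intro y
  obtain ⟨t, ht⟩ := hs ((HZero.equivAdd _).symm y)
  refine ⟨HZero.equivAdd _ t, ?_⟩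
  refine (HZero.equivAdd_map φ t).symm.trans ?_
  refine (congrArg (HZero.equivAdd N) ht).trans ?_
  rw [AddEquiv.apply_symm_apply]

/-- In a short exact sequence with `H^0(X₂) ⟶ H^0(X₃)` surjective and `H^1(X₂) = 0`, `H^1(X₁) = 0`. -/
theorem subsingleton_H1_left {S : ShortComplex W.Modules} (hS : S.ShortExact)
    (hs : Function.Surjective (S.g.app ⊤)) (h1 : Subsingleton (Coh.HH W S.X₂ 1)) :
    Subsingleton (Coh.HH W S.X₁ 1) := by
  refine subsingleton_of_forall_eq 0 fun x => ?_
  obtain ⟨y, hy⟩ := exact₁ hS 0 x (Subsingleton.elim _ _)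
  obtain ⟨s, rfl⟩ := hmap_zero_surjective S.g hs y
  rw [← hy]
  exact δ_hmap hS 0 s

/-- In a short exact sequence with `H^1(X₁) = 0`, `H^0(X₂) ⟶ H^0(X₃)` is surjective. -/
theorem app_surjective_of_H1 {S : ShortComplex W.Modules} (hS : S.ShortExact)
    (h1 : Subsingleton (Coh.HH W S.X₁ 1)) : Function.Surjective (S.g.app ⊤) :=
  app_surjective S.g fun y => exact₃ hS 0 y (Subsingleton.elim _ _)

/-- In a short exact sequence with `H^1(X₁) = 0 = H^1(X₃)`, `H^1(X₂) = 0`. -/
theorem subsingleton_H1_mid {S : ShortComplex W.Modules} (hS : S.ShortExact)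
    (h1 : Subsingleton (Coh.HH W S.X₁ 1)) (h3 : Subsingleton (Coh.HH W S.X₃ 1)) :
    Subsingleton (Coh.HH W S.X₂ 1) := by
  refine subsingleton_of_forall_eq 0 fun x => ?_
  obtain ⟨y, hy⟩ := exact₂ hS 1 x (Subsingleton.elim _ _)
  rw [← hy, Subsingleton.elim y 0, map_zero]

/-- Functions on an integral closed subscheme of a proper scheme over an algebraically closed field are
constant, hence extend. -/
theorem app_top_surjective {k : Type u} [Field k] [IsAlgClosed k] (f : W ⟶ Spec (CommRingCat.of k))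
    [UniversallyClosed f] (D : W.IdealSheafData) [IsIntegral D.subscheme] :
    Function.Surjective (D.subschemeι.app ⊤).hom := by
  intro t
  obtain ⟨a, ha⟩ := (PerfA.H0AlgClosed.bijective_str_of_isAlgClosed (D.subschemeι ≫ f)).2 t
  refine ⟨PerfA.CechH0.str f ⊤ a, ?_⟩
  rw [← ha]
  unfold PerfA.CechH0.str
  rw [RingHom.comp_apply, RingHom.comp_apply]
  have h := Scheme.Hom.appLE_comp_appLE D.subschemeι f ⊤ ⊤ ⊤ (PerfA.CechH0.le_preimage_top f ⊤) le_rfl
  have h2 : D.subschemeι.app ⊤ = D.subschemeι.appLE ⊤ ⊤ le_rfl := Scheme.Hom.app_eq_appLE _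
  rw [h2]
  exact congr($h ((Scheme.ΓSpecIso (CommRingCat.of k)).inv.hom a))

/-- The kernel of the composition of closed immersions is strictly larger. -/
theorem ker_lt {X : Scheme.{u}} (g : W ⟶ X) [IsClosedImmersion g] (J : W.IdealSheafData) (hJ : J ≠ ⊥) :
    g.ker < (J.subschemeι ≫ g).ker := by
  refine lt_of_le_of_ne (Scheme.Hom.le_ker_comp _ _) fun heq => hJ ?_
  let U : X.affineOpens → W.affineOpens := fun V => ⟨g ⁻¹ᵁ V.1, V.2.preimage g⟩
  refine Scheme.IdealSheafData.ext_of_iSup_eq_top U ?_ fun V => ?_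
  · rw [eq_top_iff]
    intro x _
    obtain ⟨V, hV, hxV, -⟩ := exists_isAffineOpen_mem_and_subset (x := g x) (U := ⊤) trivial
    exact Opens.mem_iSup.mpr ⟨⟨V, hV⟩, hxV⟩
  · refine le_antisymm ?_ (Scheme.IdealSheafData.le_def.mp bot_le _)
    intro a ha
    rw [← J.ker_subschemeι_app, RingHom.mem_ker] at ha
    obtain ⟨b, hb⟩ : ∃ b, (g.app V.1).hom b = a := g.app_surjective V.1 V.2 a
    have h1 : b ∈ (J.subschemeι ≫ g).ker.ideal V := by
      rw [Scheme.Hom.ker_apply, RingHom.mem_ker]
      rw [Scheme.Hom.comp_app]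
      change (J.subschemeι.app (g ⁻¹ᵁ V.1)).hom ((g.app V.1).hom b) = 0
      rw [hb]
      exact ha
    rw [← heq, Scheme.Hom.ker_apply, RingHom.mem_ker] at h1
    have h2 : a = 0 := by rw [← hb]; exact h1
    rw [h2]
    exact Submodule.zero_mem _

theorem isNoetherian_of_closedImmersion {X : Scheme.{u}} (g : W ⟶ X) [IsClosedImmersion g] [IsNoetherian X] :
    IsNoetherian W := by
  have : IsLocallyNoetherian W := LocallyOfFiniteType.isLocallyNoetherian g
  have : CompactSpace W := g.isClosedEmbedding.compactSpace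
  exact {}

theorem hasBases_of_isInvertible {L : W.Modules} (hL : PicF.IsInvertible L) : VarietyB.TensCoh.HasBases L :=
  VarietyB.TensCoh.HasBases.of_isFinLocFree
    (Ega2.QCohLocal.isFinLocFree_of_rank (Ega2.QCohLocal.isFinLocFreeOfRank_one_iff.mpr hL))

/-- **The tensor step.** -/
theorem subsingleton_H1_tensor_killed {k : Type u} [Field k] [W.Over (Spec (CommRingCat.of k))]
    [IsNoetherian W] (hdim : topologicalKrullDim W ≤ 1) {E G : W.Modules} (hE : PicF.IsInvertible E)
    (hG : Coh.IsCoh G) (J : W.IdealSheafData) (hk : ClSub.KilledByIdeal J G)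
    (hgg : Curv2.IsGloballyGenerated ((Scheme.Modules.pullback J.subschemeι).obj E))
    (h1 : Subsingleton (Coh.HH W G 1)) : Subsingleton (Coh.HH W (CohB1.tensorMod E G) 1) := by
  let j := J.subschemeι
  let : J.subscheme.Over (Spec (CommRingCat.of k)) := ⟨j ≫ (W ↘ (Spec (CommRingCat.of k)))⟩
  have hf : j ≫ (W ↘ (Spec (CommRingCat.of k))) = J.subscheme ↘ (Spec (CommRingCat.of k)) := rfl
  have hN : IsNoetherian J.subscheme := isNoetherian_of_closedImmersion j
  have hd : topologicalKrullDim J.subscheme ≤ 1 :=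
    (j.isClosedEmbedding.isInducing.topologicalKrullDim_le).trans hdim
  have hk' : ClSub.KilledByIdeal j.ker G := by
    rw [show j.ker = J from J.ker_subschemeι]
    exact hk
  have hGq : Coh.IsQCoh ((Scheme.Modules.pullback j).obj G) := FormalA.PullbackQC.isQCoh_pullback j G hG.1
  have hEj : PicF.IsInvertible ((Scheme.Modules.pullback j).obj E) := CycB.C1Pull.isInvertible_pullback j hE
  have hEc : Coh.IsCoh ((Scheme.Modules.pullback j).obj E) := isCoh_of_isInvertible hEj
  have hE' : VarietyB.TensCoh.HasBases E := hasBases_of_isInvertible hE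
  have hE'' : VarietyB.TensCoh.HasBases ((Scheme.Modules.pullback j).obj E) := VarietyB.ProjForm.HasBases.pullback j hE'
  -- `H^1` of the pullback
  have h2 : Subsingleton (Coh.HH J.subscheme ((Scheme.Modules.pullback j).obj G) 1) := by
    obtain ⟨e⟩ := VarietyB.HHPush.exists_linearEquiv j k hf _ hGq 1
    have h3 : Subsingleton (Coh.HH W ((Scheme.Modules.pushforward j).obj ((Scheme.Modules.pullback j).obj G)) 1) :=
      (Fga.EulerIso.HHequiv k (FormalA.ClosedImm.pushPullIso j hk') 1).toEquiv.subsingleton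
    exact e.symm.toEquiv.subsingleton
  have h4 := GGTensor.subsingleton_H1_tensor hd hEc hgg h2
  have h5 : Subsingleton (Coh.HH W ((Scheme.Modules.pushforward j).obj (CohB1.tensorMod ((Scheme.Modules.pullback j).obj E)
      ((Scheme.Modules.pullback j).obj G))) 1) := by
    obtain ⟨e⟩ := VarietyB.HHPush.exists_linearEquiv j k hf _ (VarietyB.TensCoh.isQCoh_tensorMod hE'' hGq) 1
    exact e.toEquiv.subsingleton
  let e1 : CohB1.tensorMod E G ≅ (Scheme.Modules.pushforward j).obj (CohB1.tensorMod ((Scheme.Modules.pullback j).obj E)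
      ((Scheme.Modules.pullback j).obj G)) :=
    (DCoh.tensorBi.obj E).mapIso (FormalA.ClosedImm.pushPullIso j hk').symm ≪≫
      VarietyB.ProjForm.projIso j hE' ((Scheme.Modules.pullback j).obj G)
  exact (Fga.EulerIso.HHequiv k e1 1).toEquiv.subsingleton

end Groth.Agent.Curves.K327.NefStep
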