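import Groth.Agent.Curves.K327.PointedForm
import Groth.Agent.CurvesB.TriT208
import Groth.Agent.CalgB.AmpleBase

/-!
# Ample invertible modules have positive degree on reduced curves of pure dimension one
-/

set_option autoImplicit false
universe u
open CategoryTheory CategoryTheory.Limits AlgebraicGeometry TopologicalSpace Opposite

namespace Groth.Agent.Curves.K327.PointedAmple

open Groth.Agent.CurvesB Groth.Agent.CurvesB.GenStalk Groth.Agent.CurvesB.SubH1
open Groth.Agent.CurvesC

/-- The quotient by the zero ideal. -/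
noncomputable def quotBot (X : Scheme.{u}) : Coh.structureModule X ≅ ClSub.quotMod (⊥ : X.IdealSheafData) :=
  DegIso.unitIso (asIso (⊥ : X.IdealSheafData).subschemeι) (Coh.structureModule X) ≪≫
    (Scheme.Modules.pushforward _).mapIso (CurvesA.HHMap.pullbackUnit _)

/-- An ample invertible module on a proper reduced scheme of pure dimension one has positive degree. -/
theorem deg_pos (k : Type u) [Field k] (Y : Scheme.{u}) [Y.Over (Spec (CommRingCat.of k))]
    [IsProper (Y ↘ (Spec (CommRingCat.of k)))] [IsReduced Y] [Nonempty Y]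
    (hcomp : ∀ Z ∈ irreducibleComponents (Y : Type u), topologicalKrullDim Z = 1)
    (N : Y.Modules) (hN : CohB1.IsAmple N) : 1 ≤ Curv2.deg k Y N 1 := by
  have hNY := CurveCoh.noetherianSpace k Y
  have hdim := TriT208.dim_le_one hcomp
  let S : Set Y := {η | IsGen η}
  have hcl : closure S = Set.univ := by
    refine Set.eq_univ_of_forall fun x => ?_
    obtain ⟨ξ, hξ, hx⟩ := SubClosed.exists_isGen_specializes x
    exact closure_mono (Set.singleton_subset_iff.mpr hξ) (specializes_iff_mem_closure.mp hx)
  have hJ : TriT208.J S = (⊥ : Y.IdealSheafData) := by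
    have h1 : (⟨closure S, isClosed_closure⟩ : Closeds Y) = ⊤ := by
      ext1
      exact hcl
    unfold TriT208.J
    rw [h1, Scheme.IdealSheafData.vanishingIdeal_top]
    exact Scheme.nilradical_eq_bot
  have hne : S.Nonempty := by
    obtain ⟨x⟩ := ‹Nonempty Y›
    obtain ⟨ξ, hξ, -⟩ := SubClosed.exists_isGen_specializes x
    exact ⟨ξ, hξ⟩
  refine TriT208.pos k hcomp hN (S := S) (fun η hη => hη) hne _ (Curv2.euler k Y (Coh.structureModule Y)) fun n => ?_
  rw [hJ, DegIso.euler_congr k (Groth.Agent.Ega2.Tens.mapTIso (quotBot Y).symm (Iso.refl (CohB1.tensorPow N n)) ≪≫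
    Groth.Agent.Ega2.Tens.lunit _)]
  have h1 := CanonGG.deg_pow k Y hdim hN.1 n
  unfold Curv2.deg at h1 ⊢
  push_cast at h1 ⊢
  linarith

end Groth.Agent.Curves.K327.PointedAmple
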