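import Groth.Agent.S1529
import Groth.Agent.CurvesC.TailNum
import Mathlib.RingTheory.Artinian.Module
import Mathlib.FieldTheory.IsAlgClosed.Basic

/-!
# Counting points of reduced finite schemes over an algebraically closed field
-/

set_option autoImplicit false
universe u
open CategoryTheory CategoryTheory.Limits AlgebraicGeometry TopologicalSpace Opposite

namespace Groth.Agent.Curves.K327.PointedCount

open Groth.Agent.CurvesC

/-- The dimension of a reduced finite algebra over an algebraically closed field. -/
theorem finrank_eq_card (k : Type u) [Field k] [IsAlgClosed k] (A : Type u) [CommRing A] [Algebra k A]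
    [Module.Finite k A] [IsReduced A] : Module.finrank k A = Nat.card (PrimeSpectrum A) := by
  have hArt : IsArtinianRing A := IsArtinianRing.of_finite k A
  have hfin : Finite (MaximalSpectrum A) := inferInstance
  have e : A ≃ₗ[k] (∀ I : MaximalSpectrum A, A ⧸ I.asIdeal) :=
    (IsArtinianRing.equivPi A).toLinearEquiv.restrictScalars k
  have h1 : ∀ I : MaximalSpectrum A, Module.finrank k (A ⧸ I.asIdeal) = 1 := by
    intro I
    have := I.isMaximal
    let : Field (A ⧸ I.asIdeal) := Ideal.Quotient.field _
    have : Algebra.IsIntegral k (A ⧸ I.asIdeal) := inferInstance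
    have hb := IsAlgClosed.algebraMap_bijective_of_isIntegral (k := k) (K := A ⧸ I.asIdeal)
    exact (LinearEquiv.ofBijective (Algebra.linearMap k (A ⧸ I.asIdeal)) hb).finrank_eq.symm.trans
      (Module.finrank_self k)
  have := Fintype.ofFinite (MaximalSpectrum A)
  rw [e.finrank_eq, Module.finrank_pi_fintype]
  simp only [h1, Finset.sum_const, Finset.card_univ, smul_eq_mul, mul_one]
  rw [← Nat.card_eq_fintype_card]
  exact (Nat.card_congr IsArtinianRing.primeSpectrumEquivMaximalSpectrum).symm

section Scheme

attribute [local instance] CurveNum.topMod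

/-- `h⁰(O)` of a reduced finite scheme over an algebraically closed field. -/
theorem finrank_h0 (k : Type u) [Field k] [IsAlgClosed k] (Y : Scheme.{u}) [Y.Over (Spec (CommRingCat.of k))]
    [LocallyOfFiniteType (Y ↘ (Spec (CommRingCat.of k)))] [QuasiCompact (Y ↘ (Spec (CommRingCat.of k)))]
    [IsReduced Y] (hdim : topologicalKrullDim Y ≤ 0) :
    Module.finrank k (Coh.HH Y (Coh.structureModule Y) 0) = Nat.card Y := by
  obtain ⟨h1, h2⟩ := Groth.Agent.S1529.result k Y hdim
  rw [(CurveNum.hZeroTop k Y).finrank_eq]
  let φ : k →+* Γ(Y, ⊤) := Coh.toGlobal (Y ↘ Spec (CommRingCat.of k))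
  let : Algebra k Γ(Y, ⊤) := φ.toAlgebra
  have hf : φ.Finite := by
    have h3 : (Y ↘ (Spec (CommRingCat.of k))).appTop.hom.Finite := Scheme.Hom.finite_appTop _
    exact h3.comp (RingHom.Finite.of_surjective _
      (ConcreteCategory.bijective_of_isIso (Scheme.ΓSpecIso (CommRingCat.of k)).inv).2)
  have : Module.Finite k Γ(Y, ⊤) := hf
  have e : Y ≃ PrimeSpectrum Γ(Y, ⊤) := Y.isoSpec.hom.homeomorph.toEquiv
  rw [Nat.card_congr e, ← finrank_eq_card k Γ(Y, ⊤)]
  rfl

end Scheme

end Groth.Agent.Curves.K327.PointedCount
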