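import Groth.Agent.CurvesC.TailUnion
import Groth.Agent.CurvesC.DualDegForm
import Groth.Agent.CurvesC.CanonGG
import Groth.Agent.CurvesC.DualNodal
import Groth.Agent.CurvesB.SubAsm464

/-!
# Degrees of twists by marked points on unions of components
-/

set_option autoImplicit false
universe u
open CategoryTheory CategoryTheory.Limits AlgebraicGeometry TopologicalSpace Opposite

namespace Groth.Agent.Curves.K327.PointedDeg

open Groth.Agent.CurvesB Groth.Agent.CurvesB.GenStalk Groth.Agent.CurvesB.SubH1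

/-- A polynomial of total degree at most one in two variables is affine linear. -/
theorem eval_affine {P : MvPolynomial (Fin 2) ℚ} (hP : P.totalDegree ≤ 1) :
    MvPolynomial.eval ![1, 1] P + MvPolynomial.eval ![0, 0] P =
      MvPolynomial.eval ![1, 0] P + MvPolynomial.eval ![0, 1] P := by
  simp only [MvPolynomial.eval_eq']
  rw [← Finset.sum_add_distrib, ← Finset.sum_add_distrib]
  refine Finset.sum_congr rfl fun d hd => ?_
  have h := (MvPolynomial.le_totalDegree hd).trans hP
  rw [Finsupp.sum_fintype _ _ (fun _ => rfl), Fin.sum_univ_two] at h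
  simp only [Fin.prod_univ_two]
  obtain ⟨h1, h2⟩ | ⟨h1, h2⟩ | ⟨h1, h2⟩ : (d 0 = 0 ∧ d 1 = 0) ∨ (d 0 = 1 ∧ d 1 = 0) ∨ (d 0 = 0 ∧ d 1 = 1) := by omega
  · simp [h1, h2]
  · simp [h1, h2]
  · simp [h1, h2]

variable (k : Type u) [Field k]

/-- Additivity of the degree on a proper scheme of dimension at most one over a field. -/
theorem deg_tensor (Y : Scheme.{u}) [Y.Over (Spec (CommRingCat.of k))] [IsProper (Y ↘ (Spec (CommRingCat.of k)))]
    (hdim : topologicalKrullDim Y ≤ 1) {L M : Y.Modules} (hL : PicF.IsInvertible L) (hM : PicF.IsInvertible M) :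
    Curv2.deg k Y (CohB1.tensorMod L M) 1 = Curv2.deg k Y L 1 + Curv2.deg k Y M 1 := by
  obtain ⟨P, hP, h⟩ := Groth.Agent.S1528.result k Y (Coh.structureModule Y) (Groth.Agent.CurvesC.UnitCoh.isCoh_unit Y) 1
    ((topologicalKrullDim_subspace_le Y _).trans hdim) 2 ![L, M] (fun i => by fin_cases i <;> assumption)
  have e0 : ∀ n : ℕ, Curv2.tensorPows (Coh.structureModule Y) 2 ![L, M] ![n, 0] ≅ CohB1.tensorPow L n := fun n =>
    (Groth.Agent.Ega2.Tens.runit _) ≪≫ Groth.Agent.Ega2.Tens.lunit (CohB1.tensorPow L n)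
  have e1 : ∀ n : ℕ, Curv2.tensorPows (Coh.structureModule Y) 2 ![L, M] ![n, 1] ≅
      CohB1.tensorMod (CohB1.tensorPow L n) M := fun n =>
    Groth.Agent.Ega2.Tens.mapTIso (Groth.Agent.Ega2.Tens.lunit (CohB1.tensorPow L n))
      (Groth.Agent.Ega2.Tens.lunit M)
  have h00 : (Curv2.euler k Y (Coh.structureModule Y) : ℚ) = MvPolynomial.eval ![0, 0] P := by
    have h1 := h ![0, 0]
    rw [Groth.Agent.CurvesC.DegIso.euler_congr k (e0 0)] at h1
    refine h1.trans (congrArg (fun z => MvPolynomial.eval z P) ?_)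
    ext i; fin_cases i <;> simp
  have h10 : (Curv2.euler k Y L : ℚ) = MvPolynomial.eval ![1, 0] P := by
    have h1 := h ![1, 0]
    rw [Groth.Agent.CurvesC.DegIso.euler_congr k (e0 1 ≪≫ Groth.Agent.Ega2.Tens.lunit L)] at h1
    refine h1.trans (congrArg (fun z => MvPolynomial.eval z P) ?_)
    ext i; fin_cases i <;> simp
  have h01 : (Curv2.euler k Y M : ℚ) = MvPolynomial.eval ![0, 1] P := by
    have h1 := h ![0, 1]
    rw [Groth.Agent.CurvesC.DegIso.euler_congr k (e1 0 ≪≫ Groth.Agent.Ega2.Tens.lunit M)] at h1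
    refine h1.trans (congrArg (fun z => MvPolynomial.eval z P) ?_)
    ext i; fin_cases i <;> simp
  have h11 : (Curv2.euler k Y (CohB1.tensorMod L M) : ℚ) = MvPolynomial.eval ![1, 1] P := by
    have h1 := h ![1, 1]
    rw [Groth.Agent.CurvesC.DegIso.euler_congr k (e1 1 ≪≫ Groth.Agent.Ega2.Tens.mapTIso (Groth.Agent.Ega2.Tens.lunit L) (Iso.refl M))] at h1
    refine h1.trans (congrArg (fun z => MvPolynomial.eval z P) ?_)
    ext i; fin_cases i <;> simp
  have h2 := eval_affine hP
  rw [← h00, ← h10, ← h01, ← h11] at h2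
  unfold Curv2.deg
  push_cast
  have h3 : Curv2.euler k Y (CohB1.tensorMod L M) + Curv2.euler k Y (Coh.structureModule Y) =
      Curv2.euler k Y L + Curv2.euler k Y M := by exact_mod_cast h2
  linarith

section Inverse

variable {X W : Scheme.{u}} [X.Over (Spec (CommRingCat.of k))] [W.Over (Spec (CommRingCat.of k))]

/-- The degree of `O(Z)` on a union `W` of components of a reduced curve, for `Z` an effective Cartier divisor. -/
theorem deg_pullback_inverse [IsNoetherian X] [IsReduced X] (g : W ⟶ X) [IsClosedImmersion g] [IsReduced W]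
    [IsProper (W ↘ Spec (CommRingCat.of k))]
    (hgk : g ≫ (X ↘ Spec (CommRingCat.of k)) = W ↘ Spec (CommRingCat.of k))
    (hgen : ∀ w : W, IsGen w → IsGen (g w))
    (Z : X.IdealSheafData) (hZ : topologicalKrullDim (Z.support : Set X) ≤ 0)
    (hZg : ∀ ξ : X, IsGen ξ → ξ ∉ Z.support)
    (L : X.Modules) (hL : PicF.IsInvertible L) (hinv : ClSub.IsInverseOf L (ClSub.idealMod Z)) :
    Curv2.deg k W ((Scheme.Modules.pullback g).obj L) 1 =
      Module.finrank k (Coh.HH X (ClSub.quotMod (Z ⊔ g.ker)) 0) := by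
  obtain ⟨e⟩ := hinv
  let φ := (Scheme.Modules.pullback g).map (SubRank.twι L Z)
  have e1 : (Scheme.Modules.pullback g).obj (CohB1.tensorMod (ClSub.idealMod Z) L) ≅ Coh.structureModule W :=
    (Scheme.Modules.pullback g).mapIso (Groth.Agent.Ega2.Tens.swap _ _ ≪≫ e) ≪≫ (CurvesA.HHMap.pullbackUnit g)
  have hs : IsSmall (kernel (Abelian.factorThruImage φ)) := SubRank.isSmall_kernel_pullback_tw g hL Z hgen hZg
  have ht : TorsionFree ((Scheme.Modules.pullback g).obj (CohB1.tensorMod (ClSub.idealMod Z) L)) :=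
    TorsionFree.of_mono e1.hom torsionFree_structureModule
  have hk : kernel.ι (Abelian.factorThruImage φ) = 0 := by
    refine ht.hom_eq_zero _ fun ξ hξ => ?_
    have := hs ξ hξ
    ext x
    rw [Subsingleton.elim x 0, map_zero, map_zero]
  have hm : Mono (Abelian.factorThruImage φ) := Preadditive.mono_of_kernel_zero hk
  have hi : IsIso (Abelian.factorThruImage φ) := isIso_of_mono_of_epi _
  have h4 : Curv2.euler k W ((Scheme.Modules.pullback g).obj L) = Curv2.euler k W (Abelian.image φ) +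
    Module.finrank k (Coh.HH X (ClSub.quotMod (Z ⊔ g.ker)) 0) :=
    SubEuler2.euler_pullback_eq g Z k hgk hL hZ
  rw [Groth.Agent.CurvesC.DegIso.euler_congr k ((asIso (Abelian.factorThruImage φ)).symm ≪≫ e1)] at h4
  unfold Curv2.deg
  rw [h4]
  push_cast
  ring

end Inverse

end Groth.Agent.Curves.K327.PointedDeg
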