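import Groth.Agent.Curves.K327.PointedDeg
import Groth.Agent.Dix.IdealModCartier

/-!
# The degree of `ω(D)` on reduced connected subcurves
-/

set_option autoImplicit false
universe u
open CategoryTheory CategoryTheory.Limits AlgebraicGeometry TopologicalSpace Opposite

namespace Groth.Agent.Curves.K327.PointedForm

open Groth.Agent.CurvesB Groth.Agent.CurvesB.GenStalk Groth.Agent.CurvesB.SubH1
open Groth.Agent.CurvesC

/-- The generic points of a reduced connected subcurve are generic points. -/
theorem isGen_map {X W : Scheme.{u}} (hX : topologicalKrullDim X ≤ 1) (g : W ⟶ X) [IsClosedImmersion g]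
    [NoetherianSpace W] [ConnectedSpace W] (hdim : topologicalKrullDim W = 1) (w : W) (hw : IsGen w) :
    IsGen (g w) := by
  obtain ⟨y, hy, hne⟩ := SubRank.exists_specializes_ne hdim w hw
  rcases (dim_le_one_iff.mp hX) (g w) with h | h
  · exact absurd (g.isClosedEmbedding.injective (h (g y) (hy.map g.continuous))) hne
  · exact h

variable (k : Type u) [Field k] (X : Scheme.{u}) [X.Over (Spec (CommRingCat.of k))]

attribute [local instance] TailNum.subOver

/-- The Euler characteristic of the structure sheaf of a subcurve. -/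
theorem euler_sub [IsProper (X ↘ (Spec (CommRingCat.of k)))] (J : X.IdealSheafData)
    (hJ1 : topologicalKrullDim J.subscheme = 1) :
    Curv2.euler k J.subscheme (Coh.structureModule J.subscheme) =
      (Module.finrank k (Coh.HH X (ClSub.quotMod J) 0) : ℤ) - Module.finrank k (Coh.HH X (ClSub.quotMod J) 1) := by
  have hP : IsProper (J.subscheme ↘ Spec (CommRingCat.of k)) :=
    inferInstanceAs (IsProper (J.subschemeι ≫ (X ↘ (Spec (CommRingCat.of k)))))
  rw [CurveCoh.euler_eq k J.subscheme hJ1, TailNum.finrank_quotMod, TailNum.finrank_quotMod]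

/-- The degree of `ω(Z)` on a reduced connected subcurve. -/
theorem deg_formula [IsProper (X ↘ (Spec (CommRingCat.of k)))] [IsReduced X] [ConnectedSpace X]
    (hdim : topologicalKrullDim X = 1) (w : X.Modules) (hw : PicF.IsInvertible w)
    {t : Coh.HH X w 1 →ₗ[k] k} (ht : DualCount.IsPair k t)
    (Z : X.IdealSheafData) (L : X.Modules) (hinv : ClSub.IsInverseOf L (ClSub.idealMod Z))
    (J : X.IdealSheafData) [IsReduced J.subscheme] [ConnectedSpace J.subscheme]
    (hJ1 : topologicalKrullDim J.subscheme = 1) :
    Curv2.deg k J.subscheme ((Scheme.Modules.pullback J.subschemeι).obj (CohB1.tensorMod w L)) 1 =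
      (Module.finrank k (Coh.HH X (ClSub.quotMod (J ⊔ TailGeom.complIdeal J.support)) 0) : ℤ) -
        2 * Curv2.euler k J.subscheme (Coh.structureModule J.subscheme) +
        Module.finrank k (Coh.HH X (ClSub.quotMod (Z ⊔ J)) 0) := by
  have hP : IsProper (J.subscheme ↘ Spec (CommRingCat.of k)) :=
    inferInstanceAs (IsProper (J.subschemeι ≫ (X ↘ (Spec (CommRingCat.of k)))))
  have hNX := CurveCoh.noetherianSpace k X
  have hNJ := CurveCoh.noetherianSpace k J.subscheme
  have hL : PicF.IsInvertible L := (Dix.IdealModCartier.isInvertible_of_isInverseOf hinv).1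
  have hZc := Dix.IdealModCartier.isEffCartierIdeal_of_isInverseOf hinv
  have hZ : topologicalKrullDim (Z.support : Set X) ≤ 0 :=
    VarietyB.DegFin.dim_effCartier_le_zero k X hdim.le Z hZc
  have e : (Scheme.Modules.pullback J.subschemeι).obj (CohB1.tensorMod w L) ≅
      CohB1.tensorMod ((Scheme.Modules.pullback J.subschemeι).obj w)
        ((Scheme.Modules.pullback J.subschemeι).obj L) :=
    Groth.Agent.Ega3B.PullTensor.pullTensorIso J.subschemeι hw hL
  have h1 := DualDegForm.deg_form k hdim w hw ht J.support
    (TailUnion.subset_closure_interior hdim.le J (TailMain.pure_of_connected _ hJ1))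
  rw [← TailUnion.eq_vanishingIdeal J] at h1
  have h2 := PointedDeg.deg_pullback_inverse k J.subschemeι rfl (fun v hv => isGen_map hdim.le J.subschemeι hJ1 v hv)
    Z hZ (fun ξ hξ => SubRank.not_mem_support_of_isGen hdim Z hZ ξ hξ) L hL hinv
  rw [Scheme.IdealSheafData.ker_subschemeι] at h2
  rw [DegIso.deg_congr k e, PointedDeg.deg_tensor k J.subscheme hJ1.le
    (Groth.Agent.Fdesc.LocGen.isInvertible_pullback _ hw) (Groth.Agent.Fdesc.LocGen.isInvertible_pullback _ hL), h2,
    euler_sub k X J hJ1]
  rw [add_left_inj]
  exact h1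

end Groth.Agent.Curves.K327.PointedForm
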