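import Groth.Agent.Curves.K327.PointedAmple
import Groth.Agent.Models.H68.QuotMono
import Groth.Agent.Models.H74.CohSide
import Groth.Agent.Curves.K327.Koszul
import Groth.Agent.CurvesB.SepPoints

/-!
# Vanishing for powers of `ω(D)` on a stable pointed curve
-/

set_option autoImplicit false
universe u
open CategoryTheory CategoryTheory.Limits AlgebraicGeometry TopologicalSpace Opposite

namespace Groth.Agent.Curves.K327.PointedMain

open Groth.Agent.CurvesB Groth.Agent.CurvesB.GenStalk Groth.Agent.CurvesB.SubH1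
open Groth.Agent.CurvesC Groth.Agent.Ega3B.HLes

section Quot

variable (k : Type u) [Field k] {X : Scheme.{u}} [X.Over (Spec (CommRingCat.of k))]

/-- `H^0(O/I) → H^0(O/J)` is onto for `I ≤ J` cosupported in dimension zero. -/
theorem surjective_zero [IsProper (X ↘ (Spec (CommRingCat.of k)))] {I J : X.IdealSheafData} (h : I ≤ J)
    (hI : topologicalKrullDim (I.support : Set X) ≤ 0) :
    Function.Surjective (VarietyA.EulerLES.mapA k (Lef.quotMap h) 0) := by
  have := Fga.SnapperTwist.isNoetherian_of_proper k X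
  have hcI := VarietyB.DegCartier.isCoh_quotMod I
  have hcJ := VarietyB.DegCartier.isCoh_quotMod J
  have hK : Coh.IsCoh (kernel (Lef.quotMap h)) := CycB.CohProp.isCoh_kernel _ hcI hcJ
  have hs : CohB1.support (kernel (Lef.quotMap h)) ⊆ (I.support : Set X) :=
    (Groth.Agent.Ega3B.Devissage.support_subset_of_mono (kernel.ι (Lef.quotMap h))).trans
      (VarietyB.DegCartier.support_quotMod_subset I)
  have hd : topologicalKrullDim (CohB1.support (kernel (Lef.quotMap h))) ≤ 0 := by
    refine le_trans ?_ hI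
    exact (Topology.IsInducing.subtypeVal.of_comp_iff (f := Set.inclusion hs)
      |>.mp Topology.IsInducing.subtypeVal).topologicalKrullDim_le
  have h1 : Subsingleton (Coh.HH X (kernel (Lef.quotMap h)) 1) :=
    Groth.Agent.S1526.result k X _ hK hd 1 le_rfl
  intro x
  exact ((ab_exact₃ (shortExact_abShort (Models.H68.QuotMono.shortExact_seq h)) 0) x).1
    (@Subsingleton.elim (Coh.HH X (kernel (Lef.quotMap h)) 1) h1 _ _)

/-- The length of a finite subscheme decreases with the subscheme. -/
theorem finrank_quotMod_mono [IsProper (X ↘ (Spec (CommRingCat.of k)))] {I J : X.IdealSheafData} (h : I ≤ J)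
    (hI : topologicalKrullDim (I.support : Set X) ≤ 0) :
    Module.finrank k (Coh.HH X (ClSub.quotMod J) 0) ≤ Module.finrank k (Coh.HH X (ClSub.quotMod I) 0) := by
  have := Fga.SnapperTwist.isNoetherian_of_proper k X
  have := Groth.Agent.S0002.result k X _ (VarietyB.DegCartier.isCoh_quotMod I) 0
  exact LinearMap.finrank_le_finrank_of_surjective (surjective_zero k h hI)

end Quot

section Van

variable (k : Type u) [Field k] (X : Scheme.{u}) [X.Over (Spec (CommRingCat.of k))]

attribute [local instance] TailNum.subOver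

/-- The numerical condition satisfied by `ω(D)` on a stable curve. -/
def Key (M : X.Modules) : Prop :=
  ∀ J : X.IdealSheafData, IsReduced J.subscheme → ConnectedSpace J.subscheme → topologicalKrullDim J.subscheme = 1 →
    1 ≤ Curv2.deg k J.subscheme ((Scheme.Modules.pullback J.subschemeι).obj M) 1 ∧
    -2 * Curv2.euler k J.subscheme (Coh.structureModule J.subscheme) ≤
      Curv2.deg k J.subscheme ((Scheme.Modules.pullback J.subschemeι).obj M) 1

variable {k X}

/-- Vanishing for ideals of finite subschemes. -/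
theorem Key.van [IsProper (X ↘ (Spec (CommRingCat.of k)))] [IsReduced X] [ConnectedSpace X]
    (hdim : topologicalKrullDim X = 1) {M : X.Modules} (hM : PicF.IsInvertible M) (hK : Key k X M) (m : ℕ)
    (Z : X.IdealSheafData) (hZ : topologicalKrullDim (Z.support : Set X) ≤ 0)
    (hm : Module.finrank k (Coh.HH X (ClSub.quotMod Z) 0) + 2 ≤ m) :
    Subsingleton (Coh.HH X (CohB1.tensorMod (ClSub.idealMod Z) (CohB1.tensorPow M m)) 1) := by
  by_contra hcon
  rw [not_subsingleton_iff_nontrivial] at hcon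
  obtain ⟨J, hJr, hJc, hJd, hle⟩ := SubAsm464.main k X hdim _ (Groth.Agent.Fdesc.LocGen.isInvertible_tensorPow hM m)
    Z hZ hcon
  obtain ⟨h1, h2⟩ := hK J hJr hJc hJd
  have h3 := finrank_quotMod_mono k (le_sup_left : Z ≤ Z ⊔ J) hZ
  have h4 := CanonGG.deg_restrict_pow k X M hM J hJd.le m
  have h5 : ((Module.finrank k (Coh.HH X (ClSub.quotMod Z) 0) : ℤ)) + 2 ≤ m := by exact_mod_cast hm
  have h6 : ((Module.finrank k (Coh.HH X (ClSub.quotMod (Z ⊔ J)) 0) : ℤ)) ≤
    Module.finrank k (Coh.HH X (ClSub.quotMod Z) 0) := by exact_mod_cast h3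
  change Curv2.deg k J.subscheme ((Scheme.Modules.pullback J.subschemeι).obj (CohB1.tensorPow M m)) 1 ≤
    -2 * Curv2.euler k J.subscheme (Coh.structureModule J.subscheme) + _ at hle
  rw [h4] at hle
  generalize Curv2.deg k J.subscheme ((Scheme.Modules.pullback J.subschemeι).obj M) 1 = d at *
  nlinarith

theorem idealMod_top (X : Scheme.{u}) : Nonempty (ClSub.idealMod (⊤ : X.IdealSheafData) ≅ Coh.structureModule X) := by
  obtain ⟨e⟩ := Groth.Agent.Dix.IdealModCartier.idealMod_principal (X := X) (D := ⊤) (a := 1) (by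
    intro W hW
    rw [map_one]
    refine ⟨one_mem _, ?_⟩
    rw [Ideal.span_singleton_one]
    rfl)
  exact ⟨e.symm⟩

theorem finrank_quotMod_top (k : Type u) [Field k] (Y : Scheme.{u}) [Y.Over (Spec (CommRingCat.of k))] :
    Module.finrank k (Coh.HH Y (ClSub.quotMod (⊤ : Y.IdealSheafData)) 0) = 0 := by
  have e : Coh.HH Y (ClSub.quotMod (⊤ : Y.IdealSheafData)) 0 ≃+ Γ(ClSub.quotMod (⊤ : Y.IdealSheafData), ⊤) :=
    VarietyA.H0Equiv.hZeroEquiv (ClSub.quotMod (⊤ : Y.IdealSheafData))
  have h1 : IsEmpty (⊤ : Y.IdealSheafData).subscheme := ⟨fun z => by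
    have h2 : (⊤ : Y.IdealSheafData).subschemeι z ∈ Set.range (⊤ : Y.IdealSheafData).subschemeι := ⟨z, rfl⟩
    rw [Scheme.IdealSheafData.range_subschemeι] at h2
    exact h2⟩
  have h3 : Subsingleton Γ(ClSub.quotMod (⊤ : Y.IdealSheafData), ⊤) := by
    change Subsingleton Γ((⊤ : Y.IdealSheafData).subscheme, (⊤ : Y.IdealSheafData).subschemeι ⁻¹ᵁ ⊤)
    infer_instance
  have h4 := e.toEquiv.subsingleton
  exact Module.finrank_zero_of_subsingleton

/-- Vanishing of `H^1` of the powers. -/
theorem Key.van_pow [IsProper (X ↘ (Spec (CommRingCat.of k)))] [IsReduced X] [ConnectedSpace X]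
    (hdim : topologicalKrullDim X = 1) {M : X.Modules} (hM : PicF.IsInvertible M) (hK : Key k X M) (m : ℕ)
    (hm : 2 ≤ m) : Subsingleton (Coh.HH X (CohB1.tensorPow M m) 1) := by
  obtain ⟨e⟩ := idealMod_top X
  have hZ : topologicalKrullDim ((⊤ : X.IdealSheafData).support : Set X) ≤ 0 := by
    have h1 : ((⊤ : X.IdealSheafData).support : Set X) = ∅ := by
      rw [Scheme.IdealSheafData.support_top]; rfl
    exact SepPoints.topologicalKrullDim_le_zero (by rw [h1]; exact Set.finite_empty) (fun x hx => by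
      rw [h1] at hx; exact hx.elim)
  have h1 := hK.van hdim hM m ⊤ hZ (by rw [finrank_quotMod_top]; exact hm)
  exact (Koszul.subsingleton_congr (Groth.Agent.Ega2.Tens.mapTIso e (Iso.refl (CohB1.tensorPow M m)) ≪≫
    Groth.Agent.Ega2.Tens.lunit _) h1)

/-- The key inequality for `ω(Z)`. -/
theorem key [IsAlgClosed k] [IsProper (X ↘ (Spec (CommRingCat.of k)))] [IsReduced X] [ConnectedSpace X]
    (hdim : topologicalKrullDim X = 1) (w : X.Modules) (hw : PicF.IsInvertible w)
    {t : Coh.HH X w 1 →ₗ[k] k} (ht : DualCount.IsPair k t)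
    (Z : X.IdealSheafData) (L : X.Modules) (hinv : ClSub.IsInverseOf L (ClSub.idealMod Z))
    (hst : CohB1.IsAmple (CohB1.tensorMod w L)) : Key k X (CohB1.tensorMod w L) := by
  intro J hJr hJc hJd
  have hP : IsProper (J.subscheme ↘ Spec (CommRingCat.of k)) :=
    inferInstanceAs (IsProper (J.subschemeι ≫ (X ↘ (Spec (CommRingCat.of k)))))
  have hNJ := CurveCoh.noetherianSpace k J.subscheme
  constructor
  · exact PointedAmple.deg_pos k J.subscheme (TailMain.pure_of_connected _ hJd) _
      (CalgB.AmpleBase.isAmple_pullback J.subschemeι hst fun _ =>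
        ⟨⊤, trivial, fun _ _ hV => hV.preimage J.subschemeι⟩)
  · rw [PointedForm.deg_formula k X hdim w hw ht Z L hinv J hJd]
    have h1 : (0 : ℤ) ≤ Module.finrank k (Coh.HH X (ClSub.quotMod (J ⊔ TailGeom.complIdeal J.support)) 0) :=
      Nat.cast_nonneg _
    have h2 : (0 : ℤ) ≤ Module.finrank k (Coh.HH X (ClSub.quotMod (Z ⊔ J)) 0) := Nat.cast_nonneg _
    linarith

end Van

end Groth.Agent.Curves.K327.PointedMain
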