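import Groth.Agent.Curves.K327.PointedMain
import Groth.Agent.Curves.K327.PointedCount

/-!
# The degree of `ω(D)` and the dimension of the space of sections of its powers
-/

set_option autoImplicit false
universe u
open CategoryTheory CategoryTheory.Limits AlgebraicGeometry TopologicalSpace Opposite

namespace Groth.Agent.Curves.K327.PointedTotal

open Groth.Agent.CurvesB Groth.Agent.CurvesB.GenStalk Groth.Agent.CurvesB.SubH1
open Groth.Agent.CurvesC

variable (k : Type u) [Field k] (X : Scheme.{u}) [X.Over (Spec (CommRingCat.of k))]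

attribute [local instance] TailNum.subOver

/-- The length of a reduced finite subscheme over an algebraically closed field is its number of points. -/
theorem finrank_points [IsAlgClosed k] [IsProper (X ↘ (Spec (CommRingCat.of k)))] (Z : X.IdealSheafData)
    [IsReduced Z.subscheme] (hZ : topologicalKrullDim (Z.support : Set X) ≤ 0) :
    Module.finrank k (Coh.HH X (ClSub.quotMod Z) 0) = Nat.card (Z.support : Set X) := by
  have hP : IsProper (Z.subscheme ↘ Spec (CommRingCat.of k)) :=
    inferInstanceAs (IsProper (Z.subschemeι ≫ (X ↘ (Spec (CommRingCat.of k)))))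
  have e : Z.subscheme ≃ₜ (Z.support : Set X) :=
    (Z.subschemeι.isClosedEmbedding.isEmbedding.toHomeomorph).trans
      (Homeomorph.setCongr (Scheme.IdealSheafData.range_subschemeι Z))
  have hd : topologicalKrullDim Z.subscheme ≤ 0 := (IsHomeomorph.topologicalKrullDim_eq _ e.isHomeomorph).trans_le hZ
  rw [← TailNum.finrank_quotMod k X Z 0, PointedCount.finrank_h0 k Z.subscheme hd]
  exact Nat.card_congr e.toEquiv

theorem complIdeal_top (X : Scheme.{u}) [IsLocallyNoetherian X] : TailGeom.complIdeal (⊤ : Closeds X) = ⊤ := by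
  rw [← Scheme.IdealSheafData.support_eq_bot_iff]
  ext1
  rw [TailGeom.support_complIdeal]
  simp

/-- The degree of `ω(Z)`. -/
theorem deg_total [IsProper (X ↘ (Spec (CommRingCat.of k)))] [IsReduced X] [ConnectedSpace X]
    (hdim : topologicalKrullDim X = 1) (h0 : Module.finrank k (Coh.HH X (Coh.structureModule X) 0) = 1)
    (w : X.Modules) (hw : PicF.IsInvertible w)
    {t : Coh.HH X w 1 →ₗ[k] k} (ht : DualCount.IsPair k t)
    (Z : X.IdealSheafData) (L : X.Modules) (hinv : ClSub.IsInverseOf L (ClSub.idealMod Z)) :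
    Curv2.deg k X (CohB1.tensorMod w L) 1 =
      2 * (Curv2.genus k X : ℤ) - 2 + Module.finrank k (Coh.HH X (ClSub.quotMod Z) 0) := by
  have hLN : IsLocallyNoetherian X := LocallyOfFiniteType.isLocallyNoetherian (X ↘ (Spec (CommRingCat.of k)))
  let J : X.IdealSheafData := ⊥
  let e : J.subscheme ≅ X := asIso J.subschemeι
  have h1 : IsReduced J.subscheme := isReduced_of_isOpenImmersion e.hom
  have h2 : ConnectedSpace J.subscheme := e.hom.homeomorph.symm.surjective.connectedSpace e.hom.homeomorph.symm.continuous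
  have h3 : topologicalKrullDim J.subscheme = 1 :=
    (IsHomeomorph.topologicalKrullDim_eq _ e.hom.homeomorph.isHomeomorph).trans hdim
  have h4 := PointedForm.deg_formula k X hdim w hw ht Z L hinv J h3
  have h5 : Curv2.deg k J.subscheme ((Scheme.Modules.pullback J.subschemeι).obj (CohB1.tensorMod w L)) 1 =
      Curv2.deg k X (CohB1.tensorMod w L) 1 := DegIso.deg_pullback_iso k e rfl _ 1
  have h6 : J ⊔ TailGeom.complIdeal J.support = ⊤ := by
    have h7 : J.support = ⊤ := Scheme.IdealSheafData.support_bot
    rw [h7, complIdeal_top, sup_top_eq]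
  rw [h5, h6, PointedMain.finrank_quotMod_top, PointedForm.euler_sub k X J h3, CanonGG.finrank_bot, CanonGG.finrank_bot,
    h0, sup_bot_eq] at h4
  rw [h4]
  unfold Curv2.genus
  push_cast
  ring

/-- The dimension of the space of sections of the powers. -/
theorem finrank_pow [IsAlgClosed k] [IsProper (X ↘ (Spec (CommRingCat.of k)))] [IsReduced X] [ConnectedSpace X]
    (hdim : topologicalKrullDim X = 1) (h0 : Module.finrank k (Coh.HH X (Coh.structureModule X) 0) = 1)
    (w : X.Modules) (hw : PicF.IsInvertible w)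
    {t : Coh.HH X w 1 →ₗ[k] k} (ht : DualCount.IsPair k t)
    (Z : X.IdealSheafData) [IsReduced Z.subscheme] (L : X.Modules) (hinv : ClSub.IsInverseOf L (ClSub.idealMod Z))
    (hst : CohB1.IsAmple (CohB1.tensorMod w L)) (l : ℕ) (hl : 2 ≤ l) :
    (Module.finrank k (Coh.HH X (CohB1.tensorPow (CohB1.tensorMod w L) l) 0) : ℤ) =
      (l : ℤ) * (2 * (Curv2.genus k X : ℤ) - 2 + (Nat.card (Z.support : Set X) : ℤ)) + 1 - (Curv2.genus k X : ℤ) := by
  have hZ : topologicalKrullDim (Z.support : Set X) ≤ 0 :=
    VarietyB.DegFin.dim_effCartier_le_zero k X hdim.le Z (Dix.IdealModCartier.isEffCartierIdeal_of_isInverseOf hinv)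
  have hK := PointedMain.key hdim w hw ht Z L hinv hst
  have h1 := hK.van_pow hdim hst.1 l hl
  have h2 := deg_total k X hdim h0 w hw ht Z L hinv
  have h3 := CanonGG.deg_pow k X hdim.le hst.1 l
  have h4 := CurveCoh.euler_eq k X hdim (CohB1.tensorPow (CohB1.tensorMod w L) l)
  have h5 := CurveCoh.euler_eq k X hdim (Coh.structureModule X)
  rw [Module.finrank_zero_of_subsingleton (R := k) (M := Coh.HH X (CohB1.tensorPow (CohB1.tensorMod w L) l) 1)] at h4
  rw [h0] at h5
  rw [← finrank_points k X Z hZ, ← h2]
  unfold Curv2.genus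
  unfold Curv2.deg at h3 ⊢
  push_cast at h3 h4 h5 ⊢
  linarith

end Groth.Agent.Curves.K327.PointedTotal
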