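import Groth.Agent.Curves.K327.ShortVan
import Groth.Agent.Curves.K327.NefBC

/-!
# Ample implies very ample on curves with `H^1(O) = 0`
-/

set_option autoImplicit false
universe u
open CategoryTheory CategoryTheory.Limits AlgebraicGeometry TopologicalSpace Opposite

namespace Groth.Agent.Curves.K327.SepMain

open Groth.Agent.CurvesC.Gen NefInd IsLocalRing
open Groth.Agent.CurvesB Groth.Agent.CurvesB.SepPoints

section Geo

variable {Y : Scheme.{u}}

/-- **Separation of points**, given the vanishing for the reduced subscheme on the two points. -/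
theorem exists_sec_points (M : Y.Modules) (hM : PicF.IsInvertible M) (x y : Y) (hx : IsClosed ({x} : Set Y))
    (hy : IsClosed ({y} : Set Y))
    (hB : ∀ Z : Y.IdealSheafData, (Z.support : Set Y) = {x, y} → IsReduced Z.subscheme →
      Subsingleton (Coh.HH Y (CohB1.tensorMod (ClSub.idealMod Z) M) 1)) :
    ∃ s : Coh.structureModule Y ⟶ M, y ∈ CohB1.genLocus M s ∧ (x ≠ y → x ∉ CohB1.genLocus M s) := by
  let T : Closeds Y := ⟨{x, y}, by
    rw [Set.insert_eq]; exact hx.union hy⟩
  let Z := Scheme.IdealSheafData.vanishingIdeal T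
  have : IsReduced Z.subscheme := Ega1.ReducedSub.isReduced_subscheme_vanishingIdeal T
  have hsupp : (Z.support : Set Y) = {x, y} := Scheme.IdealSheafData.coe_support_vanishingIdeal T
  have h1 := hB Z hsupp this
  obtain ⟨U0, hyU0, e0, he0⟩ := exists_isGen hM y
  -- complement of `x` if `x ≠ y`
  obtain ⟨W, hyW, hWx⟩ : ∃ W : Y.Opens, y ∈ W ∧ (x ≠ y → x ∉ W) := by
    by_cases hxy : x = y
    · exact ⟨⊤, trivial, fun h => absurd hxy h⟩
    · exact ⟨⟨({x} : Set Y)ᶜ, hx.isOpen_compl⟩, fun h => hxy h.symm, fun _ h => h rfl⟩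
  let U := U0 ⊓ W
  have hyU : y ∈ U := ⟨hyU0, hyW⟩
  let e := M.presheaf.map (homOfLE (inf_le_left : U ≤ U0)).op e0
  have he : IsGen M U e := he0.mono _
  obtain ⟨s, hs1, hs2⟩ := SepLift.exists_section Z hM h1 hy hyU (by
    intro w hw hwy hws
    have hw' : w ∈ (Z.support : Set Y) := hws
    rw [hsupp] at hw'
    rcases hw' with rfl | rfl
    · exact hWx hwy hw.2
    · exact hwy rfl) e
  refine ⟨ofSec s, ?_, ?_⟩
  · obtain ⟨a, ha⟩ := he.exists_eq (sec (ofSec s) U)
    have h2 := hs1 U le_rfl e he a 1 (by rw [ha, sec_ofSec]; rfl) (by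
      rw [one_smul]; exact map_self_section M le_rfl e)
    have h3 := notMem_basicOpen_of_app_eq_zero Z (x := y) (by
      change y ∈ (Z.support : Set Y); rw [hsupp]; simp) U (a - 1) h2
    rw [← germ_mem_maximalIdeal_iff hyU, map_sub, map_one] at h3
    have h4 : y ∈ Y.basicOpen a := by
      rw [Scheme.mem_basicOpen _ _ _ hyU]
      by_contra h5
      have h6 : (1 : Y.presheaf.stalk y) ∈ maximalIdeal (Y.presheaf.stalk y) := by
        have h7 := (maximalIdeal (Y.presheaf.stalk y)).sub_mem ((mem_maximalIdeal _).2 h5) h3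
        simpa using h7
      exact (Ideal.ne_top_iff_one _).1 (maximalIdeal.isMaximal _).ne_top h6
    rw [← genLocus_inf_eq_basicOpen he (ofSec s) ha] at h4
    exact h4.1
  · intro hxy hxs
    obtain ⟨V0, hxV0, e1, he1⟩ := exists_isGen hM x
    let V : Y.Opens := V0 ⊓ ⟨({y} : Set Y)ᶜ, hy.isOpen_compl⟩
    have hxV : x ∈ V := ⟨hxV0, hxy⟩
    have he2 : IsGen M V (M.presheaf.map (homOfLE (inf_le_left : V ≤ V0)).op e1) := he1.mono _
    obtain ⟨a, ha⟩ := he2.exists_eq (sec (ofSec s) V)
    have h2 := hs2 V _ (fun h => h.2 rfl) he2 a (by rw [ha, sec_ofSec]; rfl)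
    have h3 := notMem_basicOpen_of_app_eq_zero Z (x := x) (by
      change x ∈ (Z.support : Set Y); rw [hsupp]; simp) V a h2
    apply h3
    rw [← genLocus_inf_eq_basicOpen he2 (ofSec s) ha]
    exact ⟨hxs, hxV⟩

/-- **Separation of tangent vectors.** -/
theorem exists_sec_tangent [IsLocallyNoetherian Y] (M : Y.Modules) (hM : PicF.IsInvertible M)
    (x : Y) (hx : IsClosed ({x} : Set Y)) (I : Ideal (Y.presheaf.stalk x))
    (hI : I < maximalIdeal (Y.presheaf.stalk x))
    (hB : ∀ (q : Ideal (Y.presheaf.stalk x)) [QuasiCompact (zq x q)], q ≤ maximalIdeal (Y.presheaf.stalk x) →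
      (∀ a ∈ maximalIdeal (Y.presheaf.stalk x), ∀ b ∈ maximalIdeal (Y.presheaf.stalk x), a * b ∈ q) →
      Subsingleton (Coh.HH Y (CohB1.tensorMod (ClSub.idealMod (zq x q).ker) M) 1)) :
    ∃ (V : Y.Opens) (hxV : x ∈ V) (e : Γ(M, V)) (s : Coh.structureModule Y ⟶ M) (a : Γ(Y, V)),
      IsGen M V e ∧ a • e = sec s V ∧ Y.presheaf.germ V x hxV a ∈ maximalIdeal (Y.presheaf.stalk x) ∧
      Y.presheaf.germ V x hxV a ∉ I := by
  let m := maximalIdeal (Y.presheaf.stalk x)
  let q : Ideal (Y.presheaf.stalk x) := I ⊔ m • m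
  have hqlt : q < m := by
    refine lt_of_le_of_ne (sup_le hI.le Ideal.mul_le_left) fun heq => ?_
    have h2 : m ≤ I := by
      refine Submodule.le_of_le_smul_of_le_jacobson_bot (I := m)
        (IsNoetherian.noetherian m) ?_ heq.ge
      exact (IsLocalRing.jacobson_eq_maximalIdeal (⊥ : Ideal (Y.presheaf.stalk x)) bot_ne_top).ge
    exact absurd (lt_of_lt_of_le hI h2) (lt_irrefl _)
  have hIq : I ≤ q := le_sup_left
  have hqm : q ≤ m := hqlt.le
  have hmm : ∀ a ∈ m, ∀ b ∈ m, a * b ∈ q := fun a ha b hb =>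
    Ideal.mem_sup_right (Ideal.mul_mem_mul ha hb)
  have hsq : ∀ a ∈ m, a * a ∈ q := fun a ha => hmm a ha a ha
  obtain ⟨t, htm, htq⟩ := SetLike.exists_of_lt hqlt
  have hqc : QuasiCompact (zq x q) := by
    have : TopologicalSpace.NoetherianSpace (Spec (CommRingCat.of (Y.presheaf.stalk x ⧸ q))) :=
      inferInstanceAs (TopologicalSpace.NoetherianSpace (PrimeSpectrum (Y.presheaf.stalk x ⧸ q)))
    infer_instance
  have hsupp := support_ker_zq x q hqm hsq hx
  have h1 := hB q hqm hmm
  obtain ⟨U0, hxU0, e0, he0⟩ := exists_isGen hM x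
  obtain ⟨U1, hxU1, t1, ht1⟩ := Y.presheaf.exists_germ_eq t
  let U := U0 ⊓ U1
  have hxU : x ∈ U := ⟨hxU0, hxU1⟩
  let e := M.presheaf.map (homOfLE (inf_le_left : U ≤ U0)).op e0
  have he : IsGen M U e := he0.mono _
  let t2 : Γ(Y, U) := Y.presheaf.map (homOfLE (inf_le_right : U ≤ U1)).op t1
  have ht2 : Y.presheaf.germ U x hxU t2 = t := by
    rw [← ht1]
    exact Y.presheaf.germ_res_apply (homOfLE (inf_le_right : U ≤ U1)) x hxU t1
  obtain ⟨s, hs1, -⟩ := SepLift.exists_section (zq x q).ker hM h1 hx hxU (by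
    intro w hw hwx hws
    have hw' : w ∈ ((zq x q).ker.support : Set Y) := hws
    rw [hsupp] at hw'
    exact hwx hw') (t2 • e)
  obtain ⟨a, ha⟩ := he.exists_eq (sec (ofSec s) U)
  have h2 := hs1 U le_rfl e he a t2 (by rw [ha, sec_ofSec]; rfl) (map_self_section M le_rfl _)
  have h3 : (zq x q).app U (a - t2) = 0 :=
    (Smoothlim.ConormalRes.app_eq_zero_iff_imageι (zq x q) U (a - t2)).2 h2
  rw [zq_app_eq_zero_iff x q hxU, map_sub, ht2] at h3
  refine ⟨U, hxU, e, ofSec s, a, he, ha, ?_, ?_⟩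
  · have h4 := (maximalIdeal (Y.presheaf.stalk x)).add_mem (hqm h3) htm
    simpa using h4
  · intro h4
    apply htq
    have h5 := q.sub_mem (hIq h4) h3
    simpa using h5

theorem mem_support_cl (x : Y) : x ∈ (cl Y x).support := by
  rw [← SetLike.mem_coe, ← Scheme.IdealSheafData.range_subschemeι, range_cl]
  exact subset_closure rfl

theorem mul_zero_points (x y : Y) (Z : Y.IdealSheafData) (hsupp : (Z.support : Set Y) = {x, y})
    [IsReduced Z.subscheme] (U : Y.Opens) (a b : Γ(Y, U)) (ha : (cl Y x).subschemeι.app U a = 0)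
    (hb : (cl Y y).subschemeι.app U b = 0) : Z.subschemeι.app U (a * b) = 0 := by
  rw [← basicOpen_eq_bot_iff, ← Scheme.preimage_basicOpen]
  ext z
  simp only [Opens.coe_bot, Set.mem_empty_iff_false, iff_false]
  intro hz
  have hz' : Z.subschemeι z ∈ Y.basicOpen (a * b) := hz
  rw [Scheme.basicOpen_mul] at hz'
  have h1 : Z.subschemeι z ∈ (Z.support : Set Y) := by
    rw [← Scheme.IdealSheafData.range_subschemeι]
    exact ⟨z, rfl⟩
  rw [hsupp] at h1
  rcases h1 with h | h
  · have := notMem_basicOpen_of_app_eq_zero (cl Y x) (mem_support_cl x) U a ha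
    rw [← h] at this
    exact this hz'.1
  · have := notMem_basicOpen_of_app_eq_zero (cl Y y) (mem_support_cl y) U b hb
    rw [← h] at this
    exact this hz'.2

theorem mul_zero_tangent (x : Y) (q : Ideal (Y.presheaf.stalk x)) [QuasiCompact (zq x q)]
    (hmm : ∀ a ∈ maximalIdeal (Y.presheaf.stalk x), ∀ b ∈ maximalIdeal (Y.presheaf.stalk x), a * b ∈ q)
    (U : Y.Opens) (a b : Γ(Y, U)) (ha : (cl Y x).subschemeι.app U a = 0)
    (hb : (cl Y x).subschemeι.app U b = 0) : (zq x q).ker.subschemeι.app U (a * b) = 0 := by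
  refine (Smoothlim.ConormalRes.app_eq_zero_iff_imageι (zq x q) U (a * b)).1 ?_
  by_cases hx : x ∈ U
  · rw [zq_app_eq_zero_iff x q hx, map_mul]
    refine hmm _ ?_ _ ?_
    · rw [germ_mem_maximalIdeal_iff]
      exact notMem_basicOpen_of_app_eq_zero (cl Y x) (mem_support_cl x) U a ha
    · rw [germ_mem_maximalIdeal_iff]
      exact notMem_basicOpen_of_app_eq_zero (cl Y x) (mem_support_cl x) U b hb
  · have h1 : (zq x q) ⁻¹ᵁ U = ⊥ := by
      ext w
      simp only [Opens.coe_bot, Set.mem_empty_iff_false, iff_false]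
      intro hw
      apply hx
      have h2 : (zq x q) w ∈ U := hw
      rwa [zq_apply x q (fun a ha => hmm a ha a ha)] at h2
    have h2 : Subsingleton Γ(Spec (CommRingCat.of (Y.presheaf.stalk x ⧸ q)), (zq x q) ⁻¹ᵁ U) := by
      rw [h1]
      infer_instance
    exact Subsingleton.elim _ _

end Geo

/-- An ample invertible module has positive degree on integral closed curves. -/
theorem deg_nonneg_of_isAmple {k : Type u} [Field k] {X : Scheme.{u}} [X.Over (Spec (CommRingCat.of k))]
    [IsProper (X ↘ (Spec (CommRingCat.of k)))] {L : X.Modules} (hA : CohB1.IsAmple L)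
    (J : X.IdealSheafData) (hJ : IsIntegral J.subscheme) (hJd : topologicalKrullDim J.subscheme = 1) :
    0 ≤ @Curv2.deg k _ J.subscheme ⟨J.subschemeι ≫ (X ↘ (Spec (CommRingCat.of k)))⟩
        ((Scheme.Modules.pullback J.subschemeι).obj L) 1 := by
  let : J.subscheme.Over (Spec (CommRingCat.of k)) := ⟨J.subschemeι ≫ (X ↘ (Spec (CommRingCat.of k)))⟩
  have hpJ : IsProper (J.subscheme ↘ (Spec (CommRingCat.of k))) := inferInstanceAs (IsProper (J.subschemeι ≫ _))
  have h1 : CohB1.IsAmple ((Scheme.Modules.pullback J.subschemeι).obj L) :=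
    CalgB.AmpleBase.isAmple_pullback J.subschemeι hA fun _ => ⟨⊤, trivial, fun _ _ hV => hV.preimage J.subschemeι⟩
  exact ((Groth.Agent.S1530.result k J.subscheme hJd _ h1.1).mp h1).le

/-- **Ample implies very ample on a curve with `H^1(O) = 0`.** -/
theorem main (k : Type u) [Field k] (X : Scheme.{u}) [X.Over (Spec (CommRingCat.of k))]
    [IsProper (X ↘ (Spec (CommRingCat.of k)))] (hdim : topologicalKrullDim X ≤ 1)
    (h1 : Subsingleton (Coh.HH X (Coh.structureModule X) 1))
    (L : X.Modules) (hA : CohB1.IsAmple L) :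
    ∃ (n : ℕ) (i : X ⟶ CohB1.ProjSpace n k), IsClosedImmersion i ∧
      i ≫ CohB1.ProjSpace.toSpec n k = X ↘ (Spec (CommRingCat.of k)) ∧
      Nonempty ((Scheme.Modules.pullback i).obj (Twist.twistProjSpace n k 1) ≅ L) := by
  let K := AlgebraicClosure k
  let X' := Curv2.bc k X K
  let p : X' ⟶ X := Curv2.bcFst k X K
  let : X'.Over (Spec (CommRingCat.of K)) := VABaseChange.overBc k X K
  have hpb : IsPullback p (X' ↘ Spec (CommRingCat.of K)) (X ↘ Spec (CommRingCat.of k))
      (Spec.map (CommRingCat.ofHom (algebraMap k K))) := VABaseChange.isPullback_bc k X K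
  have hp : IsProper (X' ↘ (Spec (CommRingCat.of K))) := VABaseChange.isProper hpb
  have hd' : topologicalKrullDim X' ≤ 1 := (VABaseChange.topologicalKrullDim_eq hpb).trans_le hdim
  have hpi : IsIntegralHom p := VABaseChange.isIntegralHom hpb
  have h1' : Subsingleton (Coh.HH X' (Coh.structureModule X') 1) := by
    have hf := VarietyA.CurveFin.finite_HH_structure K X' 1
    have h2 := VABaseChange.finrank_structure_eq hpb 1
    rw [show Module.finrank k (Coh.HH X (Coh.structureModule X) 1) = 0 from Module.finrank_zero_of_subsingleton] at h2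
    exact Module.finrank_zero_iff.mp h2
  have hA' : CohB1.IsAmple ((Scheme.Modules.pullback p).obj L) :=
    CalgB.AmpleBase.isAmple_pullback p hA fun _ => ⟨⊤, trivial, fun _ _ hV => hV.preimage p⟩
  have hgg := (NefBC.main K X' hd' h1' _ hA'.1 fun J hJ hJd => deg_nonneg_of_isAmple hA' J hJ hJd).2
  have hN := CurvesC.CurveCoh.noetherianSpace K X'
  refine VeryAmple.of_separates hpb hA.1 ⟨?_, ?_, ?_⟩
  · intro y hy
    obtain ⟨s, hs, -⟩ := exists_sec_points _ hA'.1 y y hy hy fun Z hZ hZr =>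
      ShortVan.van (k := K) hd' h1' hA' hgg y y hy hy Z (mul_zero_points y y Z hZ)
    exact ⟨s, hs⟩
  · intro x y hx hy hne
    obtain ⟨s, hs, h⟩ := exists_sec_points _ hA'.1 x y hx hy fun Z hZ hZr =>
      ShortVan.van (k := K) hd' h1' hA' hgg x y hx hy Z (mul_zero_points x y Z hZ)
    exact ⟨s, h hne, hs⟩
  · intro y hy I hI
    exact exists_sec_tangent _ hA'.1 y hy I hI fun q _ hq hmm =>
      ShortVan.van (k := K) hd' h1' hA' hgg y y hy hy _ (mul_zero_tangent y q hmm)

end Groth.Agent.Curves.K327.SepMain
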