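import Groth.Agent.Curves.K327.TwoSec
import Groth.Agent.CurvesB.SepPoints
import Groth.Agent.CurvesB.VeryAmple

/-!
# Ample invertible modules on curves with `H^1(O) = 0` over an algebraically closed field separate points
-/

set_option autoImplicit false
universe u
open CategoryTheory CategoryTheory.Limits AlgebraicGeometry TopologicalSpace Opposite

namespace Groth.Agent.Curves.K327.ShortVan

open Groth.Agent.CohqB.HSeqMod Groth.Agent.CurvesB.SubH1 Groth.Agent.CurvesC.Gen NefStep NefInd
open Groth.Agent.CurvesB Groth.Agent.CurvesB.SubPoint Groth.Agent.Ega2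

variable {X : Scheme.{u}}

section Pairing

variable (D E Z : X.IdealSheafData) (L : X.Modules)

/-- the product pairing `(I_E ⊗ L) ⊗ I_D ⟶ L`. -/
noncomputable def nu : CohB1.tensorMod (CohB1.tensorMod (ClSub.idealMod E) L) (ClSub.idealMod D) ⟶ L :=
  (Tens.swap _ _).hom ≫ Tens.mapT (𝟙 _) (SepLift.mu E L) ≫ SepLift.mu D L

theorem nu_tmul (U : X.Opens) (g : Γ(ClSub.idealMod E, U)) (l : Γ(L, U)) (f : Γ(ClSub.idealMod D, U)) :
    (nu D E L).app U (Tens.tmul (Tens.tmul g l) f) = (SepLift.inc D U f * SepLift.inc E U g) • l := by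
  have h1 : (nu D E L).app U (Tens.tmul (Tens.tmul g l) f) =
      (SepLift.mu D L).app U ((Tens.mapT (𝟙 _) (SepLift.mu E L)).app U
        ((Tens.swap _ _).hom.app U (Tens.tmul (Tens.tmul g l) f))) := rfl
  rw [h1]
  have h2 : (Tens.swap _ _).hom.app U (Tens.tmul (Tens.tmul g l) f) = Tens.tmul f (Tens.tmul g l) :=
    Tens.swapHom_tmul _ _
  rw [h2, Tens.mapT_tmul, SepLift.mu_tmul]
  have h3 : (𝟙 (ClSub.idealMod D) : ClSub.idealMod D ⟶ ClSub.idealMod D).app U f = f := rfl
  rw [h3, SepLift.mu_tmul, mul_smul]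

variable {L}

theorem nu_pr (hZ : ∀ (U : X.Opens) (a b : Γ(X, U)), D.subschemeι.app U a = 0 → E.subschemeι.app U b = 0 →
    Z.subschemeι.app U (a * b) = 0) : nu D E L ≫ SepLift.pr Z L = 0 := by
  refine Tens.hom_ext₃ _ _ fun U g l f => ?_
  obtain ⟨i, hi⟩ := SepLift.exists_inc Z U (SepLift.inc D U f * SepLift.inc E U g)
    (hZ U _ _ (SepLift.subschemeι_inc D U f) (SepLift.subschemeι_inc E U g))
  change (SepLift.pr Z L).app U ((nu D E L).app U (Tens.tmul (Tens.tmul g l) f)) = 0
  rw [nu_tmul, ← hi, ← SepLift.mu_tmul]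
  have h : SepLift.mu Z L ≫ SepLift.pr Z L = 0 := cokernel.condition _
  exact congr(($h).app U (Tens.tmul i l))

theorem exists_lift (hL : PicF.IsInvertible L)
    (hZ : ∀ (U : X.Opens) (a b : Γ(X, U)), D.subschemeι.app U a = 0 → E.subschemeι.app U b = 0 →
      Z.subschemeι.app U (a * b) = 0) :
    ∃ ν' : CohB1.tensorMod (CohB1.tensorMod (ClSub.idealMod E) L) (ClSub.idealMod D) ⟶
      CohB1.tensorMod (ClSub.idealMod Z) L, ν' ≫ SepLift.mu Z L = nu D E L := by
  have hse := SepLift.sc_shortExact Z hL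
  have : Mono (SepLift.sc Z L).f := hse.mono_f
  exact ⟨hse.exact.lift (nu D E L) (nu_pr D E Z hZ), hse.exact.lift_f _ _⟩

end Pairing

theorem app_one_eq_zero (D : X.IdealSheafData) (V : X.Opens) (h : Disjoint (V : Set X) (Set.range D.subschemeι)) :
    D.subschemeι.app V 1 = 0 := by
  have h1 : D.subschemeι ⁻¹ᵁ V = ⊥ := by
    ext z
    simp only [Opens.coe_bot, Set.mem_empty_iff_false, iff_false]
    intro hz
    exact Set.disjoint_left.mp h hz ⟨z, rfl⟩
  have h2 : Subsingleton Γ(D.subscheme, D.subschemeι ⁻¹ᵁ V) := by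
    rw [h1]
    infer_instance
  exact Subsingleton.elim _ _

theorem subsingleton_coker {D E Z : X.IdealSheafData} {L : X.Modules} (hL : PicF.IsInvertible L)
    (ν' : CohB1.tensorMod (CohB1.tensorMod (ClSub.idealMod E) L) (ClSub.idealMod D) ⟶
      CohB1.tensorMod (ClSub.idealMod Z) L) (hν : ν' ≫ SepLift.mu Z L = nu D E L) (T : Set X)
    (hT : ∀ S ⊆ T, IsClosed S) (hD : Set.range D.subschemeι ⊆ T) (hE : Set.range E.subschemeι ⊆ T) :
    Subsingleton (Coh.HH X (cokernel ν') 1) := by
  have hfl : TopCat.Sheaf.IsFlasque (show TopCat.Sheaf AddCommGrpCat.{u} X from Coh.toAb (cokernel ν')) := by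
    refine VarietyA.Flasque1.isFlasque_of_support_subset _ T hT ?_
    intro U hU s
    have key : ∀ s : Γ(cokernel ν', U), s = 0 := by
      intro s
      refine Tens.eq_of_locally_eq _ _ _ fun w hw => ?_
      obtain ⟨V, hVU, z, hwV, hz⟩ := CohqB.QCSheaf.exists_local_lift (cokernel.π ν') s w hw
      refine ⟨V, homOfLE hVU, hwV, ?_⟩
      have hVT : Disjoint (V : Set X) T := hU.mono_left hVU
      obtain ⟨f, hf⟩ := SepLift.exists_inc D V 1 (app_one_eq_zero D V (hVT.mono_right hD))
      obtain ⟨g, hg⟩ := SepLift.exists_inc E V 1 (app_one_eq_zero E V (hVT.mono_right hE))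
      have h1 : ν'.app V (Tens.tmul (Tens.tmul g ((SepLift.mu Z L).app V z)) f) = z := by
        apply SepLift.mu_injective Z hL V
        have h2 := nu_tmul D E L V g ((SepLift.mu Z L).app V z) f
        rw [hf, hg, one_mul, one_smul, ← hν] at h2
        exact h2
      have h3 : (cokernel.π ν').app V z = 0 := by
        rw [← h1]
        have h4 : ν' ≫ cokernel.π ν' = 0 := cokernel.condition _
        exact congr(($h4).app V _)
      rw [← hz, h3, map_zero]
    exact key s
  exact @CohtopA.Flasque.subsingleton_H_succ _ (Coh.toAb (cokernel ν')) hfl 0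

variable {k : Type u} [Field k] [X.Over (Spec (CommRingCat.of k))]

theorem subsingleton_H1_cl [IsAlgClosed k] [IsProper (X ↘ (Spec (CommRingCat.of k)))]
    (h1 : Subsingleton (Coh.HH X (Coh.structureModule X) 1)) (ξ : X) :
    Subsingleton (Coh.HH X (ClSub.idealMod (cl X ξ)) 1) :=
  subsingleton_H1_left (VarietyB.RestrSeq.idealSeq_shortExact (cl X ξ))
    (app_top_surjective (X ↘ (Spec (CommRingCat.of k))) (cl X ξ)) h1

/-- **Vanishing for short subschemes.** -/
theorem van [IsAlgClosed k] [IsProper (X ↘ (Spec (CommRingCat.of k)))] (hdim : topologicalKrullDim X ≤ 1)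
    (h1 : Subsingleton (Coh.HH X (Coh.structureModule X) 1)) {L : X.Modules} (hA : CohB1.IsAmple L)
    (hgg : Curv2.IsGloballyGenerated L) (x y : X) (hx : IsClosed ({x} : Set X)) (hy : IsClosed ({y} : Set X))
    (Z : X.IdealSheafData) (hZ : ∀ (U : X.Opens) (a b : Γ(X, U)), (cl X x).subschemeι.app U a = 0 →
      (cl X y).subschemeι.app U b = 0 → Z.subschemeι.app U (a * b) = 0) :
    Subsingleton (Coh.HH X (CohB1.tensorMod (ClSub.idealMod Z) L) 1) := by
  have hN := CurvesC.CurveCoh.noetherianSpace k X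
  have hL := hA.1
  have : Infinite k := IsAlgClosed.instInfinite
  obtain ⟨s, t, hcov⟩ := TwoSec.exists_two (k := k) hdim hL hgg
  have hE := subsingleton_H1_cl (k := k) h1 y
  have hEc := VarietyB.DegCartier.isCoh_idealMod (cl X y)
  have h2 := Koszul.cm s t _ hcov hdim hA hgg hEc hE
  have h3 := GGTensor.subsingleton_H1_tensor hdim (GlobGenCrit.isCoh_tensor hEc hL) h2
    (subsingleton_H1_cl (k := k) h1 x)
  obtain ⟨ν', hν⟩ := exists_lift (cl X x) (cl X y) Z hL hZ
  have h4 := subsingleton_coker hL ν' hν {x, y} (by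
      intro S hS
      rcases Set.subset_pair_iff_eq.mp hS with h | h | h | h
      · rw [h]; exact isClosed_empty
      · rw [h]; exact hx
      · rw [h]; exact hy
      · rw [h, Set.insert_eq]; exact hx.union hy)
    (by rw [range_cl, hx.closure_eq]; simp) (by rw [range_cl, hy.closure_eq]; simp)
  have h5 := hmap_one_surjective_of_cokernel hdim ν' h4
  exact @Function.Surjective.subsingleton _ _ _ h3 h5

end Groth.Agent.Curves.K327.ShortVan
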