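import Groth.Agent.S5005
import Groth.Agent.SDiv.K476.HomSh6
import Groth.Agent.CurvesB.OmegaStalkDict
import Groth.Agent.Sga67.LocBasis

/-!
# Sections of the sheaf Hom out of the differentials are derivations; direct images
-/

set_option autoImplicit false
universe u
open CategoryTheory CategoryTheory.Limits AlgebraicGeometry TopologicalSpace Opposite

noncomputable section

namespace Groth.Agent.Curves.K327.TanHom

open RefHull K476.HomSh1 K476.HomSh2 K476.HomSh6 Groth.Agent.Ega1.QCohLoc K583.AlgUniv K583.DerAffine K583.DerFunct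

/-- A morphism of modules which is bijective on the sections over affine opens is an isomorphism. -/
theorem isIso_of_affine {X : Scheme.{u}} {M N : X.Modules} (f : M ⟶ N)
    (H : ∀ U : X.Opens, IsAffineOpen U → Function.Bijective (f.app U)) : IsIso f := by
  refine Groth.Agent.Sga67.LocBasis.isIso_of_bijective f fun x U hx => ?_
  obtain ⟨V, hV, hxV, hVU⟩ := exists_isAffineOpen_mem_and_subset hx
  exact ⟨V, hVU, hxV, H V hV⟩

section der

variable {A : Type u} [CommRing A] {X : Scheme.{u}} (f : X ⟶ Spec (CommRingCat.of A)) [QuasiSeparated f]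
  {F : X.Modules}

/-- The differential. -/
abbrev d (U : X.Opens) (a : Γ(X, U)) : Γ(Omega.sheaf f, U) := (OmegaSh.dOmega f).app U a

/-- The structure map of the algebra of sections. -/
abbrev str (U : X.Opens) : Γ(Spec (CommRingCat.of A), ⊤) →+* Γ(X, U) := (f.appLE ⊤ U le_top).hom

theorem isAlgUniv {U : X.Opens} (hU : IsAffineOpen U) :
    IsAlgUniv (str f U) ((OmegaSh.dOmega f).app U) :=
  K136.UnivOmega.isAlgUniv_dOmega f _ (isAffineOpen_top _) hU

variable {f}

/-- Sections of the sheaf Hom out of the differentials are determined by the derivation. -/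
theorem der_ext {U : X.Opens} (hU : IsAffineOpen U) {g g' : Γ(homSh (Omega.sheaf f) F, U)}
    (H : ∀ a : Γ(X, U), secMap g le_rfl (d f U a) = secMap g' le_rfl (d f U a)) : g = g' := by
  apply (affEquivSelf hU (Groth.Agent.CurvesB.OmegaStalkDict.isQCoh_omega f)).injective
  exact (isAlgUniv f hU).hom_ext H

/-- The derivation of a section of the sheaf Hom. -/
def derOf {U : X.Opens} (g : Γ(homSh (Omega.sheaf f) F, U)) : Γ(X, U) →+ Γ(F, U) :=
  (secMap g le_rfl).toAddMonoidHom.comp ((OmegaSh.dOmega f).app U)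

theorem derOf_apply {U : X.Opens} (g : Γ(homSh (Omega.sheaf f) F, U)) (a : Γ(X, U)) :
    derOf g a = secMap g le_rfl (d f U a) := rfl

theorem isDer_derOf {U : X.Opens} (hU : IsAffineOpen U) (g : Γ(homSh (Omega.sheaf f) F, U)) :
    IsDer (str f U) (derOf g) :=
  (isAlgUniv f hU).toIsDer.comp (secMap g le_rfl)

theorem derOf_injective {U : X.Opens} (hU : IsAffineOpen U) :
    Function.Injective (derOf : Γ(homSh (Omega.sheaf f) F, U) → _) := by
  intro g g' h
  exact der_ext hU fun a => DFunLike.congr_fun h a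

/-- Derivations come from sections of the sheaf Hom. -/
theorem exists_derOf {U : X.Opens} (hU : IsAffineOpen U) (D : Γ(X, U) →+ Γ(F, U))
    (hD : IsDer (str f U) D) : ∃ g : Γ(homSh (Omega.sheaf f) F, U), derOf g = D := by
  obtain ⟨ψ, hψ, -⟩ := (isAlgUniv f hU).lift _ D hD
  refine ⟨(affEquivSelf hU (Groth.Agent.CurvesB.OmegaStalkDict.isQCoh_omega f)).symm ψ, ?_⟩
  ext a
  rw [derOf_apply, secMap_affEquivSelf_symm, hψ]

theorem secMap_postComp {G G' : X.Modules} (ψ : G ⟶ G') {U V : X.Opens} (hV : V ≤ U)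
    (g : Γ(homSh F G, U)) (m : Γ(F, V)) :
    secMap ((postComp F ψ).app U g) hV m = ψ.app V (secMap g hV m) := by
  refine sec_ext G' fun x hx => ?_
  rw [germ_secMap, postComp_app_apply, LinearMap.comp_apply, ← stalkMapₗ_germ, germ_secMap]

theorem derOf_postComp {G G' : X.Modules} (ψ : G ⟶ G') {U : X.Opens} (g : Γ(homSh (Omega.sheaf f) G, U))
    (a : Γ(X, U)) : derOf ((postComp (Omega.sheaf f) ψ).app U g) a = ψ.app U (derOf g a) :=
  secMap_postComp ψ le_rfl g _

end der

section push

variable {X X' : Scheme.{u}} (h : X' ⟶ X) {M : X.Modules} {M' : X'.Modules}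
  (ρ : M ⟶ (Scheme.Modules.pushforward h).obj M') (N : X'.Modules)

/-- The linear map defined by a section of the sheaf Hom upstairs. -/
def pushLin (U : X.Opens) (g : Γ(homSh M' N, h ⁻¹ᵁ U)) (V : X.Opens) (hV : V ≤ U) :
    Γ(M, V) →ₗ[Γ(X, V)] Γ((Scheme.Modules.pushforward h).obj N, V) where
  toFun m := (show Γ(N, h ⁻¹ᵁ V) from secMap g (h.preimage_mono hV) (ρ.app V m))
  map_add' m m' := by
    rw [map_add]
    exact map_add (secMap g (h.preimage_mono hV)) _ _
  map_smul' r m := by
    rw [RingHom.id_apply, Scheme.Modules.Hom.app_smul]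
    exact map_smul (secMap g (h.preimage_mono hV)) (h.app V r) _

theorem pushLin_res (U : X.Opens) (g : Γ(homSh M' N, h ⁻¹ᵁ U)) (V W : X.Opens) (hV : V ≤ U) (hW : W ≤ V)
    (m : Γ(M, V)) : pushLin h ρ N U g W (hW.trans hV) (M.presheaf.map (homOfLE hW).op m) =
      ((Scheme.Modules.pushforward h).obj N).presheaf.map (homOfLE hW).op (pushLin h ρ N U g V hV m) := by
  have e1 : ρ.app W (M.presheaf.map (homOfLE hW).op m) =
      ((Scheme.Modules.pushforward h).obj M').presheaf.map (homOfLE hW).op (ρ.app V m) :=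
    Groth.Agent.Sga67.Sec.appS_res ρ hW m
  change (secMap g (h.preimage_mono (hW.trans hV)) (ρ.app W (M.presheaf.map (homOfLE hW).op m)) :
    Γ(N, h ⁻¹ᵁ W)) = _
  rw [e1]
  exact secMap_res g (h.preimage_mono hV) (h.preimage_mono hW) _

/-- The section of the sheaf Hom defined by a section of the sheaf Hom upstairs. -/
def pushSec (U : X.Opens) (g : Γ(homSh M' N, h ⁻¹ᵁ U)) :
    Γ(homSh M ((Scheme.Modules.pushforward h).obj N), U) :=
  ofComp U (Groth.Agent.CohqB.HomSheaf.mkSec (pushLin h ρ N U g) (pushLin_res h ρ N U g))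

theorem secMap_pushSec (U : X.Opens) (g : Γ(homSh M' N, h ⁻¹ᵁ U)) {V : X.Opens} (hV : V ≤ U)
    (m : Γ(M, V)) : secMap (pushSec h ρ N U g) hV m =
      @id Γ(N, h ⁻¹ᵁ V) (secMap g (h.preimage_mono hV) (ρ.app V m)) := by
  unfold pushSec
  rw [secMap_ofComp]
  rfl

theorem pushSec_add (U : X.Opens) (g g' : Γ(homSh M' N, h ⁻¹ᵁ U)) :
    pushSec h ρ N U (g + g') = pushSec h ρ N U g + pushSec h ρ N U g' := by
  refine homSec_ext_secMap fun V hV m => ?_
  rw [secMap_add, LinearMap.add_apply, secMap_pushSec, secMap_pushSec, secMap_pushSec, secMap_add]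
  rfl

theorem secMap_smul' {Y : Scheme.{u}} {P Q : Y.Modules} {W W' : Y.Opens} (hW : W' ≤ W) (c : Γ(Y, W))
    (s : Γ(homSh P Q, W)) (t : Γ(P, W')) :
    secMap (c • s) hW t = Y.presheaf.map (homOfLE hW).op c • secMap s hW t := by
  refine sec_ext Q fun x hx => ?_
  rw [germ_secMap, Mero.germ_smul, germ_secMap, TopCat.Presheaf.germ_res_apply]
  rfl

theorem pushSec_smul (U : X.Opens) (r : Γ(X, U)) (g : Γ(homSh M' N, h ⁻¹ᵁ U)) :
    pushSec h ρ N U (h.app U r • g) = r • pushSec h ρ N U g := by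
  refine homSec_ext_secMap fun V hV m => ?_
  have e2 : X'.presheaf.map (homOfLE (h.preimage_mono hV)).op (h.app U r) =
      h.app V (X.presheaf.map (homOfLE hV).op r) :=
    (congr($(h.naturality (homOfLE hV).op) r)).symm
  rw [secMap_smul', secMap_pushSec, secMap_pushSec, secMap_smul', e2]
  rfl

theorem pushSec_res {U V : X.Opens} (hUV : V ≤ U) (g : Γ(homSh M' N, h ⁻¹ᵁ U)) :
    pushSec h ρ N V (res (homSh M' N) (h.preimage_mono hUV) g) =
      res (homSh M ((Scheme.Modules.pushforward h).obj N)) hUV (pushSec h ρ N U g) := by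
  refine homSec_ext_secMap fun W hW m => ?_
  rw [secMap_res_left, secMap_pushSec, secMap_pushSec, secMap_res_left]

/-- The morphism `h_* Hom(M', N) → Hom(M, h_* N)` defined by `M → h_* M'`. -/
def pushHom : (Scheme.Modules.pushforward h).obj (homSh M' N) ⟶
    homSh M ((Scheme.Modules.pushforward h).obj N) :=
  Groth.Agent.Fdesc.LocGen.mkHom
    (fun U => AddMonoidHom.mk' (fun g => pushSec h ρ N U (show Γ(homSh M' N, h ⁻¹ᵁ U) from g))
      (fun g g' => pushSec_add h ρ N U g g'))
    (fun U r g => pushSec_smul h ρ N U r g)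
    (fun U V hUV g => pushSec_res h ρ N hUV g)

theorem pushHom_app (U : X.Opens) (g : Γ(homSh M' N, h ⁻¹ᵁ U)) :
    (pushHom h ρ N).app U g = pushSec h ρ N U g := rfl

end push

end Groth.Agent.Curves.K327.TanHom

end
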