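import Groth.Agent.CurvSt.K896.NodeMeetG
import Groth.Agent.Curves.K325.NodeTransv
import Groth.Agent.CurvesB.DimOneTop
import Groth.Agent.CurvesB.SepPoints

/-!
# Two curves meeting in nodes of their union: local structure
-/

set_option autoImplicit false
universe u
open CategoryTheory CategoryTheory.Limits AlgebraicGeometry TopologicalSpace Opposite IsLocalRing

namespace Groth.Agent.Curves.K327.TanNode

open Groth.Agent.Divis.CartierBasic Groth.Agent.Divis.CartierStalk Groth.Agent.CurvesB K896.CompMeet K896.NodeMeet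

variable (k : Type u) [Field k] {X : Scheme.{u}} [X.Over (Spec (CommRingCat.of k))]

/-- Two closed subschemes covering a scheme, meeting transversally at a node. -/
theorem node_transversal [LocallyOfFiniteType (X ↘ Spec (CommRingCat.of k))] [IsReduced X]
    (I J : X.IdealSheafData) (hI : I.radical = I) (hJ : J.radical = J)
    (hIJ : (I.support : Set X) ∪ (J.support : Set X) = Set.univ) (x : X) (h : Curv2.IsNode k X x)
    {z w : X} (hz : z ⤳ x) (hzx : z ≠ x) (hzI : z ∈ (I.support : Set X)) (hzJ : z ∉ (J.support : Set X))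
    (hw : w ⤳ x) (hwx : w ≠ x) (hwI : w ∉ (I.support : Set X)) (hwJ : w ∈ (J.support : Set X)) :
    stalkIdeal I x ⊔ stalkIdeal J x = maximalIdeal (X.presheaf.stalk x) ∧
      IsRegularLocalRing (X.presheaf.stalk x ⧸ stalkIdeal J x) := by
  have hLN : IsLocallyNoetherian X := LocallyOfFiniteType.isLocallyNoetherian (X ↘ (Spec (CommRingCat.of k)))
  have hI0 := stalkIdeal_ne_bot I hw hwI
  have hJ0 := stalkIdeal_ne_bot J hz hzJ
  have hinf := stalkIdeal_inf_eq_bot I J hIJ x
  have hxI : x ∈ I.support := hz.mem_closed I.support.isClosed hzI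
  have hxJ : x ∈ J.support := hw.mem_closed J.support.isClosed hwJ
  have hItop : stalkIdeal I x ≠ ⊤ := (mem_support_iff_stalkIdeal_ne_top I x).mp hxI
  have hJtop : stalkIdeal J x ≠ ⊤ := (mem_support_iff_stalkIdeal_ne_top J x).mp hxJ
  obtain ⟨-, xb, rfl, hodp⟩ := h
  have h1 : Nontrivial (X.presheaf.stalk _ ⧸ stalkIdeal I (Curv2.bcFst k X (AlgebraicClosure k) xb)) :=
    Ideal.Quotient.nontrivial_iff.mpr hItop
  have h2 : Nontrivial (X.presheaf.stalk _ ⧸ stalkIdeal J (Curv2.bcFst k X (AlgebraicClosure k) xb)) :=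
    Ideal.Quotient.nontrivial_iff.mpr hJtop
  have h3 : _root_.IsReduced (X.presheaf.stalk _ ⧸ stalkIdeal I (Curv2.bcFst k X (AlgebraicClosure k) xb)) :=
    (Ideal.isRadical_iff_quotient_reduced _).mp (Groth.Agent.Divis.RadStalk.stalkIdeal_isRadical I hI _)
  have h4 : _root_.IsReduced (X.presheaf.stalk _ ⧸ stalkIdeal J (Curv2.bcFst k X (AlgebraicClosure k) xb)) :=
    (Ideal.isRadical_iff_quotient_reduced _).mp (Groth.Agent.Divis.RadStalk.stalkIdeal_isRadical J hJ _)
  let _ : (Curv2.bc k X (AlgebraicClosure k)).Over (Spec (CommRingCat.of (AlgebraicClosure k))) :=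
    ⟨Curv2.bcSnd k X (AlgebraicClosure k)⟩
  let _ := Curv2.stalkAlgebra (AlgebraicClosure k) (Curv2.bc k X (AlgebraicClosure k)) xb
  have hlft : LocallyOfFiniteType (Curv2.bcSnd k X (AlgebraicClosure k)) := inferInstance
  have hLN' : IsLocallyNoetherian (Curv2.bc k X (AlgebraicClosure k)) :=
    LocallyOfFiniteType.isLocallyNoetherian (Curv2.bcSnd k X (AlgebraicClosure k))
  let _ : Algebra (X.presheaf.stalk (Curv2.bcFst k X (AlgebraicClosure k) xb))
      ((Curv2.bc k X (AlgebraicClosure k)).presheaf.stalk xb) :=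
    ((Curv2.bcFst k X (AlgebraicClosure k)).stalkMap xb).hom.toAlgebra
  have hflat : Flat (Curv2.bcFst k X (AlgebraicClosure k)) := inferInstance
  have h5 : Module.Flat (X.presheaf.stalk (Curv2.bcFst k X (AlgebraicClosure k) xb))
      ((Curv2.bc k X (AlgebraicClosure k)).presheaf.stalk xb) :=
    Flat.stalkMap (Curv2.bcFst k X (AlgebraicClosure k)) xb
  have h6 : IsLocalHom (algebraMap (X.presheaf.stalk (Curv2.bcFst k X (AlgebraicClosure k) xb))
      ((Curv2.bc k X (AlgebraicClosure k)).presheaf.stalk xb)) :=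
    inferInstanceAs (IsLocalHom ((Curv2.bcFst k X (AlgebraicClosure k)).stalkMap xb).hom)
  exact sup_eq_maximalIdeal' (K := AlgebraicClosure k)
    (R := (Curv2.bc k X (AlgebraicClosure k)).presheaf.stalk xb) hodp (stalkIdeal I _) (stalkIdeal J _)
    (not_isField_quotient I hz hzx hzI) (not_isField_quotient J hw hwx hwJ) hI0 hJ0 hinf

variable (X) in
/-- Two reduced curves covering `X` and meeting in nodes of `X`. -/
structure Hyp (I J : X.IdealSheafData) : Prop where
  redI : IsReduced I.subscheme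
  redJ : IsReduced J.subscheme
  dimI : ∀ Z ∈ irreducibleComponents (I.subscheme : Type u), topologicalKrullDim Z = 1
  dimJ : ∀ Z ∈ irreducibleComponents (J.subscheme : Type u), topologicalKrullDim Z = 1
  inf : I ⊓ J = ⊥
  node : ∀ s ∈ (I.support : Set X) ∩ (J.support : Set X), Curv2.IsNode k X s

namespace Hyp

variable {k} {I J : X.IdealSheafData}

theorem symm (h : Hyp k X I J) : Hyp k X J I where
  redI := h.redJ
  redJ := h.redI
  dimI := h.dimJ
  dimJ := h.dimI
  inf := by rw [inf_comm]; exact h.inf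
  node := fun s hs => h.node s hs.symm

theorem mem_support (I : X.IdealSheafData) (z : I.subscheme) : I.subschemeι z ∈ (I.support : Set X) := by
  rw [← Scheme.IdealSheafData.range_subschemeι]
  exact ⟨z, rfl⟩

/-- The generic points of the first curve are not on the second curve. -/
theorem notMem_of_gen (h : Hyp k X I J) (ζ : I.subscheme) (hζ : ∀ y, y ⤳ ζ → y = ζ) :
    I.subschemeι ζ ∉ (J.support : Set X) := by
  intro hJ
  obtain ⟨⟨x, hx, hne⟩, -⟩ := (DimOneTop.forall_irreducibleComponents_iff.mp h.dimI) ζ hζ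
  have hcl := (h.node _ ⟨mem_support I ζ, hJ⟩).1
  have h1 : I.subschemeι x ∈ ({I.subschemeι ζ} : Set X) :=
    (hx.map I.subschemeι.continuous).mem_closed hcl rfl
  exact hne (I.subschemeι.isClosedEmbedding.injective h1)

/-- Every point of the first curve on the second one is a proper specialization of a point of the first curve only. -/
theorem exists_gen (h : Hyp k X I J) (x : X) (hxI : x ∈ (I.support : Set X)) (hxJ : x ∈ (J.support : Set X)) :
    ∃ z : X, z ⤳ x ∧ z ≠ x ∧ z ∈ (I.support : Set X) ∧ z ∉ (J.support : Set X) := by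
  rw [← Scheme.IdealSheafData.range_subschemeι] at hxI
  obtain ⟨y, rfl⟩ := hxI
  obtain ⟨ζ, hζ, hζy⟩ := DimOneTop.exists_generic_specializes y
  have h1 := h.notMem_of_gen ζ hζ
  refine ⟨I.subschemeι ζ, hζy.map I.subschemeι.continuous, ?_, mem_support I ζ, h1⟩
  intro h2
  rw [h2] at h1
  exact h1 hxJ

theorem union (h : Hyp k X I J) : (I.support : Set X) ∪ (J.support : Set X) = Set.univ := by
  have h0 : I * J ≤ ⊥ := by
    rw [← h.inf]
    intro U
    exact Ideal.mul_le_inf
  have h1 := Scheme.IdealSheafData.support_antitone h0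
  rw [Scheme.IdealSheafData.support_mul, Scheme.IdealSheafData.support_bot, top_le_iff] at h1
  exact congrArg (fun s : Closeds X => (s : Set X)) h1

theorem radical_eq (I : X.IdealSheafData) [IsReduced I.subscheme] : I.radical = I := by
  have h := Groth.Agent.Ega1.ReducedSub.radical_ker_eq I.subschemeι
  rwa [Scheme.IdealSheafData.ker_subschemeι] at h

/-- Transversality. -/
theorem transversal [LocallyOfFiniteType (X ↘ Spec (CommRingCat.of k))] [IsReduced X] (h : Hyp k X I J) (x : X)
    (hxI : x ∈ (I.support : Set X)) (hxJ : x ∈ (J.support : Set X)) :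
    stalkIdeal I x ⊔ stalkIdeal J x = maximalIdeal (X.presheaf.stalk x) ∧
      IsRegularLocalRing (X.presheaf.stalk x ⧸ stalkIdeal J x) := by
  have := h.redI
  have := h.redJ
  obtain ⟨z, hz, hzx, hzI, hzJ⟩ := h.exists_gen x hxI hxJ
  obtain ⟨w, hw, hwx, hwJ, hwI⟩ := h.symm.exists_gen x hxJ hxI
  exact node_transversal k I J (radical_eq I) (radical_eq J) h.union x (h.node x ⟨hxI, hxJ⟩) hz hzx hzI hzJ hw hwx
    hwI hwJ

theorem stalk_ne_bot (h : Hyp k X I J) (x : X) (hxI : x ∈ (I.support : Set X)) (hxJ : x ∈ (J.support : Set X)) :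
    stalkIdeal J x ≠ ⊥ := by
  obtain ⟨z, hz, hzx, hzI, hzJ⟩ := h.exists_gen x hxI hxJ
  exact stalkIdeal_ne_bot J hz hzJ

/-- The intersection is reduced. -/
theorem isReduced_comap [LocallyOfFiniteType (X ↘ Spec (CommRingCat.of k))] [IsReduced X] (h : Hyp k X I J) :
    IsReduced (J.comap I.subschemeι).subscheme := by
  refine K325.NodeTransv.isReduced_comap J I fun x hxJ hxI => ?_
  rw [stalkIdeal_sup, sup_comm]
  exact (h.transversal x hxI hxJ).1

theorem radical_comap [LocallyOfFiniteType (X ↘ Spec (CommRingCat.of k))] [IsReduced X] (h : Hyp k X I J) :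
    (J.comap I.subschemeι).radical = J.comap I.subschemeι := by
  have := h.isReduced_comap
  exact radical_eq _

end Hyp

end Groth.Agent.Curves.K327.TanNode
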