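import Groth.Agent.Curves.K327.TanHom
import Groth.Agent.Curves.K327.TanNode
import Groth.Agent.Curves.K325.GlueSeq

/-!
# Derivations of a union of two curves and the two curves
-/

set_option autoImplicit false
universe u
open CategoryTheory CategoryTheory.Limits AlgebraicGeometry TopologicalSpace Opposite IsLocalRing

noncomputable section

namespace Groth.Agent.Curves.K327.TanRes

open RefHull K476.HomSh1 K476.HomSh2 K476.HomSh6 Groth.Agent.Ega1.QCohLoc K583.AlgUniv K583.DerAffine K583.DerFunct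
open Groth.Agent.Curves.K327.TanHom Groth.Agent.Curves.K327.TanNode Groth.Agent.Dix.IdealModCartier
open Groth.Agent.Divis.CartierBasic Groth.Agent.CurvesB

/-! ### Torsion -/

/-- A section of a reduced scheme killed by an ideal whose zero locus contains no generic point vanishes. -/
theorem torsion {X C : Scheme.{u}} (i : C ⟶ X) [IsReduced C] (J : X.IdealSheafData)
    (hJ : ∀ ζ : C, (∀ y, y ⤳ ζ → y = ζ) → i ζ ∉ (J.support : Set X)) (U : X.affineOpens)
    (c : Γ(C, i ⁻¹ᵁ U.1)) (hc : ∀ b ∈ J.ideal U, i.app U.1 b * c = 0) : c = 0 := by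
  apply eq_zero_of_basicOpen_eq_bot
  rw [eq_bot_iff]
  intro z hz
  obtain ⟨ζ, hζ, hζz⟩ := DimOneTop.exists_generic_specializes z
  have h1 : ζ ∈ C.basicOpen c := hζz.mem_open (C.basicOpen c).isOpen hz
  have h2 : i ζ ∈ U.1 := C.basicOpen_le c h1
  have h3 := hJ ζ hζ
  have h4 : ∃ b ∈ J.ideal U, i ζ ∈ X.basicOpen b := by
    by_contra hcon
    push Not at hcon
    refine h3 ?_
    change i ζ ∈ J.support
    rw [Scheme.IdealSheafData.mem_support_iff_of_mem h2, Scheme.mem_zeroLocus_iff]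
    exact hcon
  obtain ⟨b, hb, hbζ⟩ := h4
  have h5 : ζ ∈ C.basicOpen (i.app U.1 b * c) := by
    rw [Scheme.basicOpen_mul]
    refine ⟨?_, h1⟩
    rw [← Scheme.preimage_basicOpen]
    exact hbζ
  rw [hc b hb, Scheme.basicOpen_zero] at h5
  exact h5.elim

/-! ### The restriction of differentials -/

section rho

variable {A : Type u} [CommRing A] {X X' : Scheme.{u}} (f : X ⟶ Spec (CommRingCat.of A)) [QuasiSeparated f]
  (h : X' ⟶ X) [QuasiSeparated (h ≫ f)]

/-- The restriction of differentials. -/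
def rho : Omega.sheaf f ⟶ (Scheme.Modules.pushforward h).obj (Omega.sheaf (h ≫ f)) :=
  univLift (S5005.result f) (pushDer (f := f) (f' := h ≫ f) (h := h) (b := 𝟙 _) (by rw [Category.comp_id])
    (OmegaSh.dOmega (h ≫ f)))

theorem rho_d (U : X.Opens) (a : Γ(X, U)) :
    (rho f h).app U (d f U a) = @id Γ(Omega.sheaf (h ≫ f), h ⁻¹ᵁ U) (d (h ≫ f) (h ⁻¹ᵁ U) (h.app U a)) :=
  univLift_app (S5005.result f) _ U a

theorem derOf_pushSec (N : X'.Modules) (U : X.Opens) (g : Γ(homSh (Omega.sheaf (h ≫ f)) N, h ⁻¹ᵁ U))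
    (a : Γ(X, U)) : derOf (pushSec h (rho f h) N U g) a = @id Γ(N, h ⁻¹ᵁ U) (derOf g (h.app U a)) := by
  rw [derOf_apply, secMap_pushSec, rho_d]
  rfl

theorem str_app (U : X.Opens) (c : Γ(Spec (CommRingCat.of A), ⊤)) :
    h.app U (str f U c) = str (h ≫ f) (h ⁻¹ᵁ U) c := by
  have e : f.appLE ⊤ U le_top ≫ h.app U = (h ≫ f).appLE ⊤ (h ⁻¹ᵁ U) le_top := by
    rw [Scheme.Hom.app_eq_appLE, Scheme.Hom.appLE_comp_appLE]
  exact congr($e c)

/-- For a closed immersion `h` such that all derivations `O_X → h_* N` kill the ideal. -/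
theorem isIso_pushHom [IsClosedImmersion h] (N : X'.Modules)
    (H : ∀ (U : X.Opens), IsAffineOpen U → ∀ D : Γ(X, U) →+ Γ((Scheme.Modules.pushforward h).obj N, U),
      IsDer (str f U) D → ∀ a, h.app U a = 0 → D a = 0) : IsIso (pushHom h (rho f h) N) := by
  refine isIso_of_affine _ fun U hU => ?_
  have hV : IsAffineOpen (h ⁻¹ᵁ U) := hU.preimage h
  have hsurj : Function.Surjective (h.app U) := h.app_surjective U hU
  constructor
  · intro (g : Γ(homSh (Omega.sheaf (h ≫ f)) N, h ⁻¹ᵁ U)) (g' : Γ(homSh (Omega.sheaf (h ≫ f)) N, h ⁻¹ᵁ U)) hg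
    replace hg : pushSec h (rho f h) N U g = pushSec h (rho f h) N U g' := hg
    refine der_ext hV fun a => ?_
    obtain ⟨a, rfl⟩ := hsurj a
    have h1 := derOf_pushSec f h N U g a
    rw [hg, derOf_pushSec] at h1
    exact h1.symm
  · intro g'
    have hD := isDer_derOf hU g'
    have hker := H U hU (derOf g') hD
    -- factor the derivation
    have hfac : ∃ D' : Γ(X', h ⁻¹ᵁ U) →+ Γ(N, h ⁻¹ᵁ U), ∀ a, D' (h.app U a) =
        @id Γ(N, h ⁻¹ᵁ U) (derOf g' a) := by
      let D0 : Γ(X, U) →+ Γ(N, h ⁻¹ᵁ U) := derOf g'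
      refine ⟨(h.app U).hom.toAddMonoidHom.liftOfSurjective hsurj ⟨D0, ?_⟩, fun a => ?_⟩
      · intro a ha
        exact hker a ha
      · exact AddMonoidHom.liftOfRightInverse_comp_apply _ _ _ _ a
    obtain ⟨D', hD'⟩ := hfac
    have hDer : IsDer (str (h ≫ f) (h ⁻¹ᵁ U)) D' := by
      refine ⟨fun a b => ?_, fun c => ?_⟩
      · obtain ⟨a, rfl⟩ := hsurj a
        obtain ⟨b, rfl⟩ := hsurj b
        rw [← map_mul, hD', hD', hD']
        exact hD.leibniz a b
      · rw [← str_app, hD']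
        exact hD.zero c
    obtain ⟨g, hg⟩ := exists_derOf hV D' hDer
    refine ⟨g, ?_⟩
    change pushSec h (rho f h) N U g = g'
    apply derOf_injective hU
    ext a
    rw [derOf_pushSec, hg, hD']
    rfl

end rho

/-! ### Derivations of the union kill the ideals -/

section kill

variable {k : Type u} [Field k] {X : Scheme.{u}} [X.Over (Spec (CommRingCat.of k))] {I J : X.IdealSheafData}

theorem torsion_of_hyp (h : Hyp k X I J) (U : X.affineOpens) (c : Γ(I.subscheme, I.subschemeι ⁻¹ᵁ U.1))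
    (hc : ∀ b ∈ J.ideal U, I.subschemeι.app U.1 b * c = 0) : c = 0 := by
  have := h.redI
  exact torsion I.subschemeι J h.notMem_of_gen U c hc

theorem mul_eq_zero_of_hyp (h : Hyp k X I J) (U : X.affineOpens) {a b : Γ(X, U.1)} (ha : a ∈ I.ideal U)
    (hb : b ∈ J.ideal U) : a * b = 0 := by
  have h1 : a * b ∈ (I ⊓ J).ideal U := ⟨Ideal.mul_mem_right _ _ ha, Ideal.mul_mem_left _ _ hb⟩
  rw [h.inf] at h1
  exact h1

theorem eq_zero_of_hyp (h : Hyp k X I J) (U : X.affineOpens) {a : Γ(X, U.1)} (ha : a ∈ I.ideal U)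
    (hb : a ∈ J.ideal U) : a = 0 := by
  have h1 : a ∈ (I ⊓ J).ideal U := ⟨ha, hb⟩
  rw [h.inf] at h1
  exact h1

theorem app_eq_zero_iff (U : X.affineOpens) (a : Γ(X, U.1)) : I.subschemeι.app U.1 a = 0 ↔ a ∈ I.ideal U :=
  Groth.Agent.CohqA.IdealMod.toSubscheme_app_eq_zero_iff I U a

theorem der_kills (h : Hyp k X I J) (K : I.subscheme.IdealSheafData) (U : X.affineOpens)
    (D : Γ(X, U.1) →+ Γ((Scheme.Modules.pushforward I.subschemeι).obj (ClSub.idealMod K), U.1))
    (hD : ∀ a b, D (a * b) = a • D b + b • D a) (a : Γ(X, U.1)) (ha : a ∈ I.ideal U) : D a = 0 := by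
  let v : Γ((Scheme.Modules.pushforward I.subschemeι).obj (ClSub.idealMod K), U.1) →+
      Γ(I.subscheme, I.subschemeι ⁻¹ᵁ U.1) := ((ClSub.idealModι K).app (I.subschemeι ⁻¹ᵁ U.1)).hom
  have hv : ∀ (c : Γ(X, U.1)) s, v (c • s) = I.subschemeι.app U.1 c * v s := fun c s =>
    val_smul K (I.subschemeι.app U.1 c) s
  have h1 : v (D a) = 0 := by
    refine torsion_of_hyp h U _ fun b hb => ?_
    have h2 := congrArg v (hD a b)
    rw [mul_eq_zero_of_hyp h U ha hb, map_zero, map_zero, map_add, hv, hv, (app_eq_zero_iff U a).2 ha,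
      zero_mul, zero_add] at h2
    exact h2.symm
  exact val_injective K (h1.trans (map_zero v).symm)

/-- The tangent sheaf of the curve, twisted by an ideal, as derivations of the union. -/
theorem isIso_pushHom_of_hyp [QuasiSeparated (X ↘ Spec (CommRingCat.of k))]
    [QuasiSeparated (I.subschemeι ≫ (X ↘ Spec (CommRingCat.of k)))] (h : Hyp k X I J)
    (K : I.subscheme.IdealSheafData) :
    IsIso (pushHom I.subschemeι (rho (X ↘ Spec (CommRingCat.of k)) I.subschemeι) (ClSub.idealMod K)) := by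
  refine isIso_pushHom _ _ _ fun U hU D hD a ha => ?_
  exact der_kills h K ⟨U, hU⟩ D hD.leibniz a ((app_eq_zero_iff ⟨U, hU⟩ a).1 ha)

end kill

end Groth.Agent.Curves.K327.TanRes

end
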