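import Groth.Agent.Curves.K327.TanRes

/-!
# The tangent sheaf of a nodal union of two curves: decomposition
-/

set_option autoImplicit false
universe u
open CategoryTheory CategoryTheory.Limits AlgebraicGeometry TopologicalSpace Opposite IsLocalRing

noncomputable section

namespace Groth.Agent.Curves.K327.TanSum

open RefHull K476.HomSh1 K476.HomSh2 K476.HomSh6 Groth.Agent.Ega1.QCohLoc K583.AlgUniv K583.DerAffine K583.DerFunct
open Groth.Agent.Curves.K327.TanHom Groth.Agent.Curves.K327.TanNode Groth.Agent.Curves.K327.TanRes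
open Groth.Agent.Dix.IdealModCartier Groth.Agent.Divis.CartierBasic Groth.Agent.CurvesB

/-- A derivation preserving an ideal `Q` with discrete reduced quotient has values in `Q`. -/
theorem der_mem {R A : Type u} [CommRing R] [CommRing A] (φ : R →+* A) (D : A →+ A)
    (hD : ∀ a b, D (a * b) = a * D b + b * D a) (h0 : ∀ c, D (φ c) = 0) (Q : Ideal A)
    (hQ : ∀ q ∈ Q, D q ∈ Q)
    (H : ∀ m : Ideal A, m.IsMaximal → Q ≤ m → ∀ a, ∃ (c : R) (s : A), s ∉ m ∧ s * (a - φ c) ∈ Q) (a : A) :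
    D a ∈ Q := by
  by_contra hcon
  let K : Ideal A :=
    { carrier := {s | s * D a ∈ Q}
      add_mem' := fun {x y} hx hy => by
        change (x + y) * D a ∈ Q
        rw [add_mul]
        exact Q.add_mem hx hy
      zero_mem' := by
        change 0 * D a ∈ Q
        rw [zero_mul]
        exact Q.zero_mem
      smul_mem' := fun c x hx => by
        change c • x * D a ∈ Q
        rw [smul_eq_mul, mul_assoc]
        exact Q.mul_mem_left _ hx }
  have hK : K ≠ ⊤ := by
    intro h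
    have h1 : (1 : A) ∈ K := by rw [h]; trivial
    have h2 : 1 * D a ∈ Q := h1
    rw [one_mul] at h2
    exact hcon h2
  obtain ⟨m, hm, hKm⟩ := Ideal.exists_le_maximal K hK
  have hQK : Q ≤ K := fun q hq => Q.mul_mem_right _ hq
  obtain ⟨c, s, hs, hsc⟩ := H m hm (hQK.trans hKm) a
  have h1 := hQ _ hsc
  rw [hD, map_sub, h0, sub_zero] at h1
  have h2 : s * s * D a ∈ Q := by
    have h3 : s * s * D a = s * (s * D a + (a - φ c) * D s) - D s * (s * (a - φ c)) := by ring
    rw [h3]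
    exact Q.sub_mem (Q.mul_mem_left _ h1) (Q.mul_mem_left _ hsc)
  have h4 : s * s ∈ m := hKm h2
  exact hs ((hm.isPrime.mem_or_mem h4).elim id id)

section desc

variable {A : Type u} [CommRing A] {X : Scheme.{u}} (f : X ⟶ Spec (CommRingCat.of A)) [QuasiSeparated f]

theorem isIso_desc {P Q R : X.Modules} (α : P ⟶ R) (β : Q ⟶ R)
    (Hinj : ∀ U : X.Opens, IsAffineOpen U → ∀ (p : Γ(P, U)) (q : Γ(Q, U)),
      α.app U p + β.app U q = 0 → p = 0 ∧ q = 0)
    (Hsurj : ∀ U : X.Opens, IsAffineOpen U → ∀ D : Γ(X, U) →+ Γ(R, U), IsDer (str f U) D → ∀ a,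
      ∃ (p : Γ(P, U)) (q : Γ(Q, U)), α.app U p + β.app U q = D a) :
    IsIso (biprod.desc (postComp (Omega.sheaf f) α) (postComp (Omega.sheaf f) β)) := by
  refine isIso_of_affine _ fun U hU => ?_
  have hinj' : ∀ (p p' : Γ(P, U)) (q q' : Γ(Q, U)), α.app U p + β.app U q = α.app U p' + β.app U q' →
      p = p' ∧ q = q' := by
    intro p p' q q' e
    have h1 := Hinj U hU (p - p') (q - q') (by
      rw [map_sub, map_sub, ← sub_eq_zero.2 e]
      abel)
    exact ⟨sub_eq_zero.1 h1.1, sub_eq_zero.1 h1.2⟩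
  have htot : ∀ s : Γ(homSh (Omega.sheaf f) P ⊞ homSh (Omega.sheaf f) Q, U),
      s = (biprod.inl : homSh (Omega.sheaf f) P ⟶ homSh (Omega.sheaf f) P ⊞ homSh (Omega.sheaf f) Q).app U
        ((biprod.fst : homSh (Omega.sheaf f) P ⊞ homSh (Omega.sheaf f) Q ⟶ _).app U s) +
      (biprod.inr : homSh (Omega.sheaf f) Q ⟶ homSh (Omega.sheaf f) P ⊞ homSh (Omega.sheaf f) Q).app U
        ((biprod.snd : homSh (Omega.sheaf f) P ⊞ homSh (Omega.sheaf f) Q ⟶ _).app U s) := fun s =>
    (congr(Scheme.Modules.Hom.app $(biprod.total (X := homSh (Omega.sheaf f) P)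
      (Y := homSh (Omega.sheaf f) Q)) U s)).symm
  have hl : ∀ g, (biprod.desc (postComp (Omega.sheaf f) α) (postComp (Omega.sheaf f) β)).app U
      ((biprod.inl : homSh (Omega.sheaf f) P ⟶ homSh (Omega.sheaf f) P ⊞ homSh (Omega.sheaf f) Q).app U g) =
      (postComp (Omega.sheaf f) α).app U g := fun g =>
    congr(Scheme.Modules.Hom.app $(biprod.inl_desc (postComp (Omega.sheaf f) α)
      (postComp (Omega.sheaf f) β)) U g)
  have hr : ∀ g, (biprod.desc (postComp (Omega.sheaf f) α) (postComp (Omega.sheaf f) β)).app U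
      ((biprod.inr : homSh (Omega.sheaf f) Q ⟶ homSh (Omega.sheaf f) P ⊞ homSh (Omega.sheaf f) Q).app U g) =
      (postComp (Omega.sheaf f) β).app U g := fun g =>
    congr(Scheme.Modules.Hom.app $(biprod.inr_desc (postComp (Omega.sheaf f) α)
      (postComp (Omega.sheaf f) β)) U g)
  have hadd : ∀ {F G : X.Modules} (g g' : Γ(homSh (Omega.sheaf f) F, U)) (a : Γ(X, U)),
      derOf (g + g') a = derOf g a + derOf g' a := by
    intro F G g g' a
    rw [derOf_apply, derOf_apply, derOf_apply, secMap_add, LinearMap.add_apply]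
  have h0 : ∀ {F : X.Modules} (a : Γ(X, U)),
      derOf (0 : Γ(homSh (Omega.sheaf f) F, U)) a = 0 := by
    intro F a
    have := hadd (G := F) (0 : Γ(homSh (Omega.sheaf f) F, U)) 0 a
    rw [add_zero] at this
    exact left_eq_add.1 this
  constructor
  · rw [injective_iff_map_eq_zero]
    intro s hs
    have h1 := htot s
    set g₁ := (biprod.fst : homSh (Omega.sheaf f) P ⊞ homSh (Omega.sheaf f) Q ⟶ _).app U s
    set g₂ := (biprod.snd : homSh (Omega.sheaf f) P ⊞ homSh (Omega.sheaf f) Q ⟶ _).app U s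
    have h2 : (postComp (Omega.sheaf f) α).app U g₁ + (postComp (Omega.sheaf f) β).app U g₂ = 0 := by
      rw [← hl, ← hr, ← map_add, ← h1]
      exact hs
    have h3 : ∀ a, derOf g₁ a = 0 ∧ derOf g₂ a = 0 := by
      intro a
      refine Hinj U hU _ _ ?_
      rw [← derOf_postComp, ← derOf_postComp, ← hadd (G := R), h2, h0]
    have h4 : g₁ = 0 := der_ext hU fun a => (h3 a).1.trans (h0 a).symm
    have h5 : g₂ = 0 := der_ext hU fun a => (h3 a).2.trans (h0 a).symm
    rw [h1, h4, h5, map_zero, map_zero, add_zero]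
  · intro g'
    have hD := isDer_derOf hU g'
    choose p q hpq using Hsurj U hU (derOf g') hD
    let D₁ : Γ(X, U) →+ Γ(P, U) := AddMonoidHom.mk' p fun a b => (hinj' _ _ (q (a + b)) (q a + q b) (by
      rw [hpq, map_add, map_add, map_add, ← hpq a, ← hpq b]
      abel)).1
    let D₂ : Γ(X, U) →+ Γ(Q, U) := AddMonoidHom.mk' q fun a b => (hinj' (p (a + b)) (p a + p b) _ _ (by
      rw [hpq, map_add, map_add, map_add, ← hpq a, ← hpq b]
      abel)).2
    have hmul : ∀ a b, p (a * b) = a • p b + b • p a ∧ q (a * b) = a • q b + b • q a := by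
      intro a b
      refine hinj' _ _ _ _ ?_
      rw [hpq, hD.leibniz, ← hpq a, ← hpq b, map_add, map_add, Scheme.Modules.Hom.app_smul,
        Scheme.Modules.Hom.app_smul, Scheme.Modules.Hom.app_smul, Scheme.Modules.Hom.app_smul, smul_add,
        smul_add]
      abel
    have hz : ∀ c, p (str f U c) = 0 ∧ q (str f U c) = 0 := by
      intro c
      refine Hinj U hU _ _ ?_
      rw [hpq, hD.zero]
    obtain ⟨g₁, hg₁⟩ := exists_derOf hU D₁ ⟨fun a b => (hmul a b).1, fun c => (hz c).1⟩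
    obtain ⟨g₂, hg₂⟩ := exists_derOf hU D₂ ⟨fun a b => (hmul a b).2, fun c => (hz c).2⟩
    refine ⟨(biprod.inl : homSh (Omega.sheaf f) P ⟶ homSh (Omega.sheaf f) P ⊞ homSh (Omega.sheaf f) Q).app U g₁ +
      (biprod.inr : homSh (Omega.sheaf f) Q ⟶ homSh (Omega.sheaf f) P ⊞ homSh (Omega.sheaf f) Q).app U g₂, ?_⟩
    rw [map_add, hl, hr]
    refine der_ext hU fun a => ?_
    change derOf _ a = derOf g' a
    rw [hadd (G := R), derOf_postComp, derOf_postComp, hg₁, hg₂]
    exact hpq a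

end desc

section hyp

variable {k : Type u} [Field k] {X : Scheme.{u}} [X.Over (Spec (CommRingCat.of k))] {I J : X.IdealSheafData}

/-- Derivations preserve the ideals. -/
theorem der_mem_ideal (h : Hyp k X I J) (U : X.affineOpens) (D : Γ(X, U.1) →+ Γ(X, U.1))
    (hD : ∀ a b, D (a * b) = a * D b + b * D a) {a : Γ(X, U.1)} (ha : a ∈ I.ideal U) : D a ∈ I.ideal U := by
  rw [← app_eq_zero_iff]
  refine torsion_of_hyp h U _ fun b hb => ?_
  have h2 := hD a b
  rw [mul_eq_zero_of_hyp h U ha hb, map_zero] at h2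
  have h3 := congrArg (I.subschemeι.app U.1) h2
  rw [map_zero, map_add, map_mul, map_mul, (app_eq_zero_iff U a).2 ha, zero_mul, zero_add] at h3
  exact h3.symm

theorem exists_const [IsAlgClosed k] [LocallyOfFiniteType (X ↘ Spec (CommRingCat.of k))] [IsReduced X]
    (h : Hyp k X I J) (U : X.affineOpens) (m : Ideal Γ(X, U.1)) (hm : m.IsMaximal) (hI : I.ideal U ≤ m)
    (hJ : J.ideal U ≤ m) (a : Γ(X, U.1)) :
    ∃ (c : Γ(Spec (CommRingCat.of k), ⊤)) (s : Γ(X, U.1)), s ∉ m ∧
      s * (a - str (X ↘ Spec (CommRingCat.of k)) U.1 c) ∈ I.ideal U ⊔ J.ideal U := by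
  let y : PrimeSpectrum Γ(X, U.1) := ⟨m, hm.isPrime⟩
  have hyU : U.2.fromSpec y ∈ U.1 := by
    have : U.2.fromSpec y ∈ U.2.fromSpec.opensRange := ⟨y, rfl⟩
    rwa [IsAffineOpen.opensRange_fromSpec] at this
  have hsupp : ∀ K : X.IdealSheafData, K.ideal U ≤ m → U.2.fromSpec y ∈ (K.support : Set X) := by
    intro K hK
    change U.2.fromSpec y ∈ K.support
    rw [Scheme.IdealSheafData.mem_support_iff_of_mem hyU, Scheme.mem_zeroLocus_iff]
    intro b hb hyb
    have h1 : y ∈ U.2.fromSpec ⁻¹ᵁ X.basicOpen b := hyb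
    rw [U.2.fromSpec_preimage_basicOpen] at h1
    exact h1 (hK hb)
  have hxI := hsupp I hI
  have hxJ := hsupp J hJ
  have hcl := (h.node _ ⟨hxI, hxJ⟩).1
  obtain ⟨a0, ha0⟩ := SepPoints.exists_const_sub_mem (X ↘ Spec (CommRingCat.of k)) (U.2.fromSpec y) hcl
    (X.presheaf.germ U.1 _ hyU a)
  obtain ⟨htr, -⟩ := h.transversal _ hxI hxJ
  let c : Γ(Spec (CommRingCat.of k), ⊤) := (Scheme.ΓSpecIso (CommRingCat.of k)).inv a0
  have hc : X.presheaf.germ ⊤ (U.2.fromSpec y) trivial (SepPoints.glb (X ↘ Spec (CommRingCat.of k)) a0) =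
      X.presheaf.germ U.1 _ hyU (str (X ↘ Spec (CommRingCat.of k)) U.1 c) := by
    have e : (X ↘ Spec (CommRingCat.of k)).appLE ⊤ U.1 le_top =
        (X ↘ Spec (CommRingCat.of k)).appTop ≫ X.presheaf.map (homOfLE le_top).op := rfl
    have e1 : str (X ↘ Spec (CommRingCat.of k)) U.1 c = X.presheaf.map (homOfLE (le_top : U.1 ≤ ⊤)).op
        ((X ↘ Spec (CommRingCat.of k)).appTop c) := congr($e c)
    rw [e1, TopCat.Presheaf.germ_res_apply]
    rfl
  rw [hc, ← map_sub, ← htr, stalkIdeal_eq I U hyU, stalkIdeal_eq J U hyU, ← Ideal.map_sup] at ha0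
  let _ := TopCat.Presheaf.algebra_section_stalk X.presheaf ⟨U.2.fromSpec y, hyU⟩
  have hloc : IsLocalization y.asIdeal.primeCompl (X.presheaf.stalk (U.2.fromSpec y)) :=
    U.2.isLocalization_stalk' y hyU
  obtain ⟨⟨⟨q, hq⟩, s⟩, hs⟩ := (IsLocalization.mem_map_algebraMap_iff y.asIdeal.primeCompl
    (X.presheaf.stalk (U.2.fromSpec y))).1 ha0
  change algebraMap Γ(X, U.1) (X.presheaf.stalk (U.2.fromSpec y)) _ *
    algebraMap Γ(X, U.1) (X.presheaf.stalk (U.2.fromSpec y)) s.1 = algebraMap _ _ q at hs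
  rw [← map_mul] at hs
  obtain ⟨t, ht⟩ := (IsLocalization.eq_iff_exists y.asIdeal.primeCompl
    (X.presheaf.stalk (U.2.fromSpec y))).1 hs
  refine ⟨c, t.1 * s.1, fun hts => ?_, ?_⟩
  · exact (t * s).2 hts
  · have h1 : t.1 * s.1 * (a - str (X ↘ Spec (CommRingCat.of k)) U.1 c) =
        t.1 * ((a - str (X ↘ Spec (CommRingCat.of k)) U.1 c) * s.1) := by ring
    rw [h1, ht]
    exact Ideal.mul_mem_left _ _ hq

/-- The decomposition of the tangent sheaf. -/
theorem isIso_sum [IsAlgClosed k] [LocallyOfFiniteType (X ↘ Spec (CommRingCat.of k))] [IsReduced X]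
    [QuasiSeparated (X ↘ Spec (CommRingCat.of k))] (h : Hyp k X I J) :
    IsIso (biprod.desc (postComp (Omega.sheaf (X ↘ Spec (CommRingCat.of k))) (ClSub.idealModι J))
      (postComp (Omega.sheaf (X ↘ Spec (CommRingCat.of k))) (ClSub.idealModι I))) := by
  refine isIso_desc _ _ _ ?_ ?_
  · intro U hU p q hpq
    have h1 : val J p + val I q = 0 := hpq
    have h2 : val J p ∈ J.ideal ⟨U, hU⟩ := val_mem J ⟨U, hU⟩ p
    have h3 : val I q ∈ I.ideal ⟨U, hU⟩ := val_mem I ⟨U, hU⟩ q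
    have h4 : val J p = 0 := by
      refine eq_zero_of_hyp h ⟨U, hU⟩ ?_ h2
      rw [eq_neg_of_add_eq_zero_left h1]
      exact neg_mem h3
    have h5 : val I q = 0 := by
      rw [h4, zero_add] at h1
      exact h1
    refine ⟨?_, ?_⟩
    · apply val_injective J
      rw [h4]
      exact (map_zero ((ClSub.idealModι J).app U).hom).symm
    · apply val_injective I
      rw [h5]
      exact (map_zero ((ClSub.idealModι I).app U).hom).symm
  · intro U hU D hD a
    let D' : Γ(X, U) →+ Γ(X, U) := D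
    have h1 : D' a ∈ I.ideal ⟨U, hU⟩ ⊔ J.ideal ⟨U, hU⟩ := by
      refine der_mem (str (X ↘ Spec (CommRingCat.of k)) U) D' hD.leibniz hD.zero _ ?_ ?_ a
      · intro q hq
        obtain ⟨q₁, hq₁, q₂, hq₂, rfl⟩ := Submodule.mem_sup.1 hq
        rw [map_add]
        exact Submodule.add_mem_sup (der_mem_ideal h ⟨U, hU⟩ D' hD.leibniz hq₁)
          (der_mem_ideal h.symm ⟨U, hU⟩ D' hD.leibniz hq₂)
      · intro m hm hQ b
        exact exists_const h ⟨U, hU⟩ m hm (le_sup_left.trans hQ) (le_sup_right.trans hQ) b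
    obtain ⟨q₁, hq₁, q₂, hq₂, e⟩ := Submodule.mem_sup.1 h1
    obtain ⟨p, hp⟩ := exists_val_eq J ⟨U, hU⟩ hq₂
    obtain ⟨q, hq⟩ := exists_val_eq I ⟨U, hU⟩ hq₁
    refine ⟨p, q, ?_⟩
    change val J p + val I q = D' a
    rw [hp, hq, ← e, add_comm]

end hyp

end Groth.Agent.Curves.K327.TanSum

end
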