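import Groth.Agent.Curves.K327.TanSum
import Groth.Agent.ProjDual.K273.InvHom
import Groth.Agent.PerfB.TensExact
import Groth.Agent.S0549
import Groth.Agent.CycB.FiberMap

/-!
# The tangent sheaf of a nodal union of two curves: twisting
-/

set_option autoImplicit false
universe u
open CategoryTheory CategoryTheory.Limits AlgebraicGeometry TopologicalSpace Opposite IsLocalRing

noncomputable section

namespace Groth.Agent.Curves.K327.TanTwist

/-! ### `Hom(E, O) ⊗ L ≅ Hom(E, L)` for `L` invertible -/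

section tens

open Groth.Agent.Sga2.PnHomAdj Groth.Agent.Sga2.LefPow644 Groth.Agent.Dcoh.TMod Groth.Agent.PerfB.TensExact
open Groth.Agent.CohqB.HomSheaf (homSheaf)
open Groth.Agent.Ega2.Tens (swap mapTIso lunit)

variable {X : Scheme.{u}}

/-- `- ⊗ G ≅ - ⊗ G'` -/
def rightCongr {G G' : X.Modules} (e : G ≅ G') : DCoh.tensorRightMod G ≅ DCoh.tensorRightMod G' :=
  (flipIso G).symm ≪≫ (DCoh.tensorBi (X := X)).flip.mapIso e ≪≫ flipIso G'

/-- `(- ⊗ E) ⊗ L' ≅ (- ⊗ L') ⊗ E` -/
def rightSwap (E L' : X.Modules) : DCoh.tensorRightMod E ⋙ DCoh.tensorRightMod L' ≅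
    DCoh.tensorRightMod L' ⋙ DCoh.tensorRightMod E :=
  tensorRightModComp E L' ≪≫ rightCongr (swap E L') ≪≫ (tensorRightModComp L' E).symm

/-- `- ⊗ E` is left adjoint to `Hom(E, -)`. -/
def rAdj (E : X.Modules) : DCoh.tensorRightMod E ⊣ homF E := (homAdj E).ofNatIsoLeft (braidIso E)

/-- `Hom(E, N) ⊗ L ≅ Hom(E, N ⊗ L)` -/
def homTens (E : X.Modules) {L L' : X.Modules} (e : CohB1.tensorMod L' L ≅ Coh.structureModule X) :
    homF E ⋙ DCoh.tensorRightMod L ≅ DCoh.tensorRightMod L ⋙ homF E :=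
  Adjunction.rightAdjointUniq (F := DCoh.tensorRightMod L' ⋙ DCoh.tensorRightMod E)
    ((equivOfInv e).toAdjunction.comp (rAdj E))
    (((rAdj E).comp (equivOfInv e).toAdjunction).ofNatIsoLeft (rightSwap E L'))

theorem nonempty_homTens (E : X.Modules) {L : X.Modules} (hL : PicF.IsInvertible L) :
    Nonempty (CohB1.tensorMod L (RefHull.dual E) ≅ RefHull.homSh E L) := by
  obtain ⟨L', -, ⟨e⟩⟩ := Groth.Agent.Grpsch.PicGrp.exists_inverse hL
  have e1 : CohB1.tensorMod (homSheaf E (Coh.structureModule X)) L ≅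
      homSheaf E (CohB1.tensorMod (Coh.structureModule X) L) :=
    (homTens E (swap L' L ≪≫ e)).app (Coh.structureModule X)
  exact ⟨mapTIso (Iso.refl L) (K476.HomSh6.cmpIso E (Coh.structureModule X)) ≪≫ swap _ _ ≪≫ e1 ≪≫
    (homF E).mapIso (lunit L) ≪≫ (K476.HomSh6.cmpIso E L).symm⟩

end tens

open RefHull K476.HomSh1 K476.HomSh2 K476.HomSh6 Groth.Agent.Ega1.QCohLoc
open Groth.Agent.Curves.K327.TanHom Groth.Agent.Curves.K327.TanNode Groth.Agent.Curves.K327.TanRes
open Groth.Agent.Dix.IdealModCartier Groth.Agent.Divis.CartierBasic Groth.Agent.CurvesB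
open Groth.Agent.Divis.CartierStalk

section hyp

variable {k : Type u} [Field k] {X : Scheme.{u}} [X.Over (Spec (CommRingCat.of k))] {I J : X.IdealSheafData}

/-- `I_J ≅ i_* I_{S, C}`. -/
theorem isIso_psi (h : Hyp k X I J) : IsIso (Groth.Agent.Pic13.H945.IdealPull.psi I.subschemeι J) := by
  refine isIso_of_affine _ fun U hU => ?_
  constructor
  · rw [injective_iff_map_eq_zero]
    intro s hs
    have h1 : val J s ∈ I.ideal ⟨U, hU⟩ := (K325.GlueSeq.psi_zero_iff J I ⟨U, hU⟩ s).1 hs
    have h2 : val J s ∈ J.ideal ⟨U, hU⟩ := val_mem J ⟨U, hU⟩ s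
    apply val_injective J
    rw [eq_zero_of_hyp h ⟨U, hU⟩ h1 h2]
    exact (map_zero ((ClSub.idealModι J).app U).hom).symm
  · intro t
    let t' : Γ(ClSub.idealMod (J.comap I.subschemeι), I.subschemeι ⁻¹ᵁ U) := t
    have hV : IsAffineOpen (I.subschemeι ⁻¹ᵁ U) := hU.preimage I.subschemeι
    have h1 := val_mem (J.comap I.subschemeι) ⟨_, hV⟩ t'
    rw [Groth.Agent.Divis.IdealComap.ideal_comap J I.subschemeι ⟨U, hU⟩ ⟨_, hV⟩ le_rfl] at h1
    have hsurj : Function.Surjective (I.subschemeι.appLE U (I.subschemeι ⁻¹ᵁ U) le_rfl).hom := by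
      rw [Scheme.Hom.appLE_eq_app]
      exact I.subschemeι.app_surjective U hU
    obtain ⟨r, hr, hrt⟩ := (Ideal.mem_map_iff_of_surjective _ hsurj).1 h1
    obtain ⟨s, hs⟩ := exists_val_eq J ⟨U, hU⟩ hr
    refine ⟨s, ?_⟩
    rw [Groth.Agent.Pic13.H945.IdealPull.psi_app]
    apply val_injective
    rw [Groth.Agent.Pic13.H945.IdealPull.val_pullVal, hs]
    exact hrt

variable [LocallyOfFiniteType (X ↘ Spec (CommRingCat.of k))] [IsReduced X]

/-- The intersection is an effective Cartier divisor on each of the curves. -/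
theorem isEff (h : Hyp k X I J) : BlowUp.IsEffCartierIdeal (J.comap I.subschemeι) := by
  have hLN : IsLocallyNoetherian I.subscheme :=
    LocallyOfFiniteType.isLocallyNoetherian (I.subschemeι ≫ (X ↘ (Spec (CommRingCat.of k))))
  apply isEffCartierIdeal_of_stalkIdeal
  intro z hz
  have hxJ : I.subschemeι z ∈ (J.support : Set X) := by
    rw [Scheme.IdealSheafData.support_comap] at hz
    exact hz
  have hxI := Hyp.mem_support I z
  have key : stalkIdeal (J.comap I.subschemeι) z = maximalIdeal (I.subscheme.presheaf.stalk z) := by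
    rw [stalkIdeal_comap]
    have hs : Function.Surjective (I.subschemeι.stalkMap z).hom := I.subschemeι.stalkMap_surjective z
    have h2 := Groth.Agent.CycB.FiberMap.map_maximalIdeal_of_surjective (I.subschemeι.stalkMap z).hom hs
    rw [← h2, ← (h.transversal _ hxI hxJ).1, Ideal.map_sup]
    have h3 : (stalkIdeal I (I.subschemeι z)).map (I.subschemeι.stalkMap z).hom = ⊥ := by
      rw [← ker_stalkMap_subschemeι, Ideal.map_eq_bot_iff_le_ker]
    rw [h3, bot_sup_eq]
  have hreg0 := (h.symm.transversal _ hxJ hxI).2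
  have hreg : IsRegularLocalRing (I.subscheme.presheaf.stalk z) :=
    IsRegularLocalRing.of_ringEquiv (stalkQuotEquiv I z)
  have hdim : ringKrullDim (I.subscheme.presheaf.stalk z) = 1 := by
    obtain ⟨ζ, hζ, hζz⟩ := DimOneTop.exists_generic_specializes z
    have hζ1 := DimOneTop.forall_irreducibleComponents_iff.mp h.dimI ζ hζ
    apply le_antisymm
    · refine (DimPts.ringKrullDim_stalk_le z).trans ?_
      refine (DimOneTop.topologicalKrullDim_eq_one_iff.2 ⟨?_, ?_⟩).le
      · obtain ⟨⟨x, hx, hne⟩, -⟩ := hζ1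
        exact ⟨ζ, x, hx, hne⟩
      · intro x
        obtain ⟨ξ, hξ, hξx⟩ := DimOneTop.exists_generic_specializes x
        by_cases hxξ : x = ξ
        · right
          rw [hxξ]
          exact hξ
        · left
          exact (DimOneTop.forall_irreducibleComponents_iff.mp h.dimI ξ hξ).2 x hξx hxξ
    · rw [ringKrullDim_stalk_eq_coheight]
      have hne : z ≠ ζ := by
        rintro rfl
        exact h.notMem_of_gen _ hζ hxJ
      have h1 : z < ζ := lt_of_le_not_ge (show ζ ⤳ z from hζz)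
        (fun h2 : z ⤳ ζ => hne (h2.antisymm hζz).eq)
      have h2 := Order.coheight_add_one_le h1
      have h3 : (1 : ℕ∞) ≤ Order.coheight z := le_trans (by simp) h2
      exact_mod_cast h3
  obtain ⟨hD, hV⟩ := (Groth.Agent.S0549.dvr_iff (I.subscheme.presheaf.stalk z)).2 ⟨hreg, hdim⟩
  obtain ⟨ϖ, hϖ⟩ := IsDiscreteValuationRing.exists_irreducible (I.subscheme.presheaf.stalk z)
  exact ⟨ϖ, mem_nonZeroDivisors_of_ne_zero hϖ.ne_zero, by
    rw [key]
    exact (IsDiscreteValuationRing.irreducible_iff_uniformizer ϖ).mp hϖ⟩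

/-- The first summand. -/
theorem nonempty_summand [QuasiSeparated (X ↘ Spec (CommRingCat.of k))]
    [QuasiSeparated (I.subschemeι ≫ (X ↘ Spec (CommRingCat.of k)))] (h : Hyp k X I J) :
    Nonempty (homSh (Omega.sheaf (X ↘ Spec (CommRingCat.of k))) (ClSub.idealMod J) ≅
      (Scheme.Modules.pushforward I.subschemeι).obj
        (CohB1.tensorMod (ClSub.idealMod (J.comap I.subschemeι).radical)
          (RefHull.dual (Omega.sheaf (I.subschemeι ≫ (X ↘ Spec (CommRingCat.of k))))))) := by
  have h1 := isIso_psi h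
  have h2 := isIso_pushHom_of_hyp h (J.comap I.subschemeι)
  rw [h.radical_comap]
  obtain ⟨e⟩ := nonempty_homTens (Omega.sheaf (I.subschemeι ≫ (X ↘ Spec (CommRingCat.of k))))
    (isInvertible_idealMod (isEff h))
  exact ⟨isoRight _ (asIso (Groth.Agent.Pic13.H945.IdealPull.psi I.subschemeι J)) ≪≫
    (asIso (pushHom I.subschemeι (rho (X ↘ Spec (CommRingCat.of k)) I.subschemeι)
      (ClSub.idealMod (J.comap I.subschemeι)))).symm ≪≫
    (Scheme.Modules.pushforward I.subschemeι).mapIso e.symm⟩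

/-- The tangent sheaf of a nodal union of two curves. -/
theorem nonempty_iso [IsAlgClosed k] [QuasiSeparated (X ↘ Spec (CommRingCat.of k))]
    [QuasiSeparated (I.subschemeι ≫ (X ↘ Spec (CommRingCat.of k)))]
    [QuasiSeparated (J.subschemeι ≫ (X ↘ Spec (CommRingCat.of k)))] (h : Hyp k X I J) :
    Nonempty (RefHull.dual (Omega.sheaf (X ↘ Spec (CommRingCat.of k))) ≅
      (Scheme.Modules.pushforward I.subschemeι).obj
          (CohB1.tensorMod (ClSub.idealMod (J.comap I.subschemeι).radical)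
            (RefHull.dual (Omega.sheaf (I.subschemeι ≫ (X ↘ Spec (CommRingCat.of k)))))) ⊞
        (Scheme.Modules.pushforward J.subschemeι).obj
          (CohB1.tensorMod (ClSub.idealMod (I.comap J.subschemeι).radical)
            (RefHull.dual (Omega.sheaf (J.subschemeι ≫ (X ↘ Spec (CommRingCat.of k))))))) := by
  have h1 := TanSum.isIso_sum h
  obtain ⟨e1⟩ := nonempty_summand h
  obtain ⟨e2⟩ := nonempty_summand h.symm
  exact ⟨(asIso (biprod.desc (postComp (Omega.sheaf (X ↘ Spec (CommRingCat.of k))) (ClSub.idealModι J))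
      (postComp (Omega.sheaf (X ↘ Spec (CommRingCat.of k))) (ClSub.idealModι I)))).symm ≪≫
    biprod.mapIso e1 e2⟩

end hyp

end Groth.Agent.Curves.K327.TanTwist

end
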