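import Groth.Agent.Curves.K327.Koszul
import Mathlib.GroupTheory.CosetCover

/-!
# Sections of globally generated invertible modules over an infinite field
-/

set_option autoImplicit false
universe u
open CategoryTheory CategoryTheory.Limits AlgebraicGeometry TopologicalSpace Opposite

namespace Groth.Agent.Curves.K327.TwoSec

open Groth.Agent.CohqB.HSeqMod Groth.Agent.CurvesB.SubH1 Groth.Agent.CurvesC.Gen NefStep NefInd
open Groth.Agent.CurvesB Groth.Agent.CurvesB.SubPoint

variable {k : Type u} [Field k] {X : Scheme.{u}} [X.Over (Spec (CommRingCat.of k))] {L : X.Modules}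

/-- A section not generating `L` at `x` vanishes at `x`. -/
theorem germ_mem_of_notMem_genLocus (hL : PicF.IsInvertible L) (s : Coh.structureModule X ⟶ L) (x : X)
    (hx : x ∉ CohB1.genLocus L s) : L.presheaf.germ ⊤ x trivial (sec s ⊤) ∈
      (IsLocalRing.maximalIdeal (X.presheaf.stalk x)) • (⊤ : Submodule (X.presheaf.stalk x) (L.presheaf.stalk x)) := by
  obtain ⟨U, hxU, e, he⟩ := exists_isGen hL x
  obtain ⟨a, ha⟩ := he.exists_eq (sec s U)
  have h1 := genLocus_inf_eq_basicOpen he s ha
  have h2 : x ∉ X.basicOpen a := by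
    rw [← h1]
    exact fun h => hx h.1
  have h3 : X.presheaf.germ U x hxU a ∈ IsLocalRing.maximalIdeal (X.presheaf.stalk x) := by
    rw [IsLocalRing.mem_maximalIdeal]
    intro h4
    exact h2 ((Scheme.mem_basicOpen _ _ _ hxU).mpr h4)
  have h4 : L.presheaf.germ ⊤ x trivial (sec s ⊤) = L.presheaf.germ U x hxU (sec s U) := by
    rw [← map_sec s (le_top : U ≤ ⊤)]
    exact (L.presheaf.germ_res_apply (homOfLE (le_top : U ≤ ⊤)) x hxU _).symm
  rw [h4, ← ha, Groth.Agent.CycB.StalkExact.germ_smul]
  exact Submodule.smul_mem_smul h3 trivial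

/-- `m L_x`. -/
noncomputable abbrev mL (L : X.Modules) (x : X) : Submodule (X.presheaf.stalk x) (L.presheaf.stalk x) :=
  (IsLocalRing.maximalIdeal (X.presheaf.stalk x)) • (⊤ : Submodule (X.presheaf.stalk x) (L.presheaf.stalk x))

/-- Over an infinite field a globally generated invertible module has a section generating it at finitely many
given points. -/
theorem exists_section [Infinite k] (hL : PicF.IsInvertible L) (hgg : Curv2.IsGloballyGenerated L)
    (T : Set X) (hT : T.Finite) : ∃ s : Coh.structureModule X ⟶ L, ∀ x ∈ T, x ∈ CohB1.genLocus L s := by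
  classical
  let : Module k Γ(L, ⊤) := Module.compHom Γ(L, ⊤) (HZero.gl k X)
  let W : X → Submodule k Γ(L, ⊤) := fun x =>
    { carrier := {s | L.presheaf.germ ⊤ x trivial s ∈ mL L x}
      add_mem' := fun {a b} ha hb => by
        change L.presheaf.germ ⊤ x trivial (a + b) ∈ mL L x
        rw [map_add]
        exact Submodule.add_mem _ ha hb
      zero_mem' := by
        change L.presheaf.germ ⊤ x trivial 0 ∈ mL L x
        rw [map_zero]
        exact Submodule.zero_mem _
      smul_mem' := fun c a ha => by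
        change L.presheaf.germ ⊤ x trivial ((HZero.gl k X c) • a) ∈ mL L x
        rw [Groth.Agent.CycB.StalkExact.germ_smul]
        exact Submodule.smul_mem _ _ ha }
  have hW : ∀ x, W x ≠ ⊤ := by
    intro x hx
    refine not_vanAt hL hgg x fun s => ?_
    have : s ∈ W x := by rw [hx]; trivial
    exact this
  have h1 : (⊤ : Submodule k Γ(L, ⊤)) ∉ hT.toFinset.image W := by
    rw [Finset.mem_image]
    rintro ⟨x, -, hx⟩
    exact hW x hx
  have h2 := Subspace.biUnion_ne_univ_of_top_notMem h1
  rw [Set.ne_univ_iff_exists_notMem] at h2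
  obtain ⟨s, hs⟩ := h2
  refine ⟨ofSec s, fun x hx => ?_⟩
  by_contra hcon
  apply hs
  have h3 := germ_mem_of_notMem_genLocus hL (ofSec s) x hcon
  rw [sec_ofSec] at h3
  simp only [Set.mem_iUnion]
  refine ⟨W x, Finset.mem_image.mpr ⟨x, hT.mem_toFinset.mpr hx, rfl⟩, ?_⟩
  change L.presheaf.germ ⊤ x trivial s ∈ mL L x
  have h4 : L.presheaf.map (homOfLE (le_top : (⊤ : X.Opens) ≤ ⊤)).op s = s := map_self_section L le_rfl s
  rwa [h4] at h3

/-- Zeros of a section generating at the generic points are finite in dimension at most one. -/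
theorem finite_compl [IsNoetherian X] (hdim : topologicalKrullDim X ≤ 1) (s : Coh.structureModule X ⟶ L)
    (hs : ∀ ξ : X, IsGen ξ → ξ ∈ CohB1.genLocus L s) : {x : X | x ∉ CohB1.genLocus L s}.Finite := by
  have hc : IsClosed {x : X | x ∉ CohB1.genLocus L s} := (CohB1.genLocus L s).2.isClosed_compl
  have hq : QuasiSober {x : X | x ∉ CohB1.genLocus L s} := hc.isClosedEmbedding_subtypeVal.quasiSober
  refine VarietyA.FiniteSupport.finite hc ?_
  rw [dim_nonpos_iff]
  rw [dim_le_one_iff] at hdim
  intro a b hab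
  have hab' : (a : X) ⤳ b := (subtype_specializes_iff _ _).mp hab
  rcases hdim (a : X) with h1 | h1
  · exact Subtype.ext (h1 _ hab')
  · exact absurd (hs a h1) a.2

/-- Two sections generating everywhere. -/
theorem exists_two [Infinite k] [IsNoetherian X] (hdim : topologicalKrullDim X ≤ 1)
    (hL : PicF.IsInvertible L) (hgg : Curv2.IsGloballyGenerated L) :
    ∃ s t : Coh.structureModule X ⟶ L, ∀ x : X, x ∈ CohB1.genLocus L s ∨ x ∈ CohB1.genLocus L t := by
  obtain ⟨s, hs⟩ := exists_section (k := k) hL hgg {ξ | IsGen ξ} (SubClosed.finite_isGen X)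
  obtain ⟨t, ht⟩ := exists_section (k := k) hL hgg _ (finite_compl hdim s hs)
  refine ⟨s, t, fun x => ?_⟩
  by_cases hx : x ∈ CohB1.genLocus L s
  · exact Or.inl hx
  · exact Or.inr (ht x hx)

end Groth.Agent.Curves.K327.TwoSec
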